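import Mathlib
import Cfsg.Agent.Lib.OddOrder38.Count14
import Cfsg.Agent.Lib.OddOrder38.PlaneP2

/-!
# BG 14.7: the partner of a maximal subgroup with non-empty `κ`

The partner is found from `M`; nothing here assumes that the Hall `κ`-subgroups are cyclic.
-/

set_option autoImplicit false

namespace CfsgLib.OddOrder40

open Subgroup CfsgLib.OddOrder CfsgLib.OddOrder.Transitivity CfsgLib.OddOrder38 CfsgLib.OddOrder41

universe u

variable {G : Type u} [Group G] [Finite G]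

/-- `K* = C_{M_σ}(K)`. -/
local notation "Kst(" M ", " K ")" => Cfsg.sigmaCore M ⊓ Subgroup.centralizer (SetLike.coe K)

/-- The maximal subgroups with `K_N K*_N = Z`. -/
def Member (Z N : Subgroup G) : Prop :=
  IsCoatom N ∧ ∃ A : Subgroup G, Cfsg.IsPiHallOf (Cfsg.kappa N) A N ∧ A ≠ ⊥ ∧ A ⊔ Kst(N, A) = Z

omit [Finite G] in
theorem kst_le (M K : Subgroup G) : Kst(M, K) ≤ M := inf_le_left.trans (piCoreOf_le _ _)

theorem kst_sigma {M K : Subgroup G} {c : G} (hc : c ∈ Kst(M, K)) {p : ℕ} (hp : p.Prime)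
    (hd : p ∣ orderOf c) : p ∈ Cfsg.sigma M :=
  mem_sigma_of_mem_sigmaCore (Subgroup.mem_inf.mp hc).1 hp hd

omit [Finite G] in
theorem kappa_elem_primes {M K : Subgroup G} (hK : Cfsg.IsPiHallOf (Cfsg.kappa M) K M) {k : G}
    (hk : k ∈ K) {p : ℕ} (hp : p.Prime) (hd : p ∣ orderOf k) : p ∈ Cfsg.kappa M :=
  hK.2.1 p hp (hd.trans (Subgroup.orderOf_dvd_natCard _ hk))

omit [Finite G] in
theorem kst_le_normalizer (M K : Subgroup G) : K ≤ Subgroup.normalizer (Kst(M, K) : Set G) := by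
  refine le_trans (fun k hk => ?_) (Subgroup.centralizer_le_normalizer _)
  exact Subgroup.mem_centralizer_iff.mpr fun c hc =>
    (Subgroup.mem_centralizer_iff.mp (Subgroup.mem_inf.mp hc).2 k hk).symm

/-- The coordinates of an element of `K K*`. -/
theorem exists_coords {M K : Subgroup G} (hK : Cfsg.IsPiHallOf (Cfsg.kappa M) K M) {z : G}
    (hz : z ∈ K ⊔ Kst(M, K)) : ∃ k ∈ K, ∃ c ∈ Kst(M, K), z = k * c ∧ Commute k c ∧
      orderOf z = orderOf k * orderOf c := by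
  obtain ⟨k, hk, c, hc, rfl⟩ := CfsgLib.Coprime.exists_mul_of_mem_sup (kst_le_normalizer M K) hz
  have hcomm : Commute k c := Subgroup.mem_centralizer_iff.mp (Subgroup.mem_inf.mp hc).2 k hk
  exact ⟨k, hk, c, hc, rfl, hcomm, hcomm.orderOf_mul_eq_mul_orderOf_of_coprime
    (Nat.coprime_of_dvd fun p hp h1 h2 => (kappa_elem_primes hK hk hp h1).2.2.1 (kst_sigma hc hp h2))⟩

/-- The `σ(M)'`-elements of `K K*` lie in `K`. -/
theorem mem_kappa_part {M K : Subgroup G} (hK : Cfsg.IsPiHallOf (Cfsg.kappa M) K M) {z : G}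
    (hz : z ∈ K ⊔ Kst(M, K)) (h : ∀ p : ℕ, p.Prime → p ∣ orderOf z → p ∉ Cfsg.sigma M) : z ∈ K := by
  obtain ⟨k, hk, c, hc, rfl, -, ho⟩ := exists_coords hK hz
  have : c = 1 := by
    by_contra hc1
    obtain ⟨p, hp, hd⟩ := Nat.exists_prime_and_dvd (n := orderOf c) fun e => hc1 (orderOf_eq_one_iff.mp e)
    exact h p hp (ho ▸ hd.mul_left _) (kst_sigma hc hp hd)
  rwa [this, mul_one]

omit [Finite G] in
theorem kappa_sup_le {M K : Subgroup G} (hK : Cfsg.IsPiHallOf (Cfsg.kappa M) K M) :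
    K ⊔ Kst(M, K) ≤ M := sup_le hK.1 (kst_le M K)

/-- Two Hall `κ`-subgroups with the same `K K*` are equal. -/
theorem hall_eq_of_sup_eq {M K A : Subgroup G} (hK : Cfsg.IsPiHallOf (Cfsg.kappa M) K M)
    (hA : Cfsg.IsPiHallOf (Cfsg.kappa M) A M) (h : A ⊔ Kst(M, A) = K ⊔ Kst(M, K)) : A = K :=
  le_antisymm
    (fun _ ha => mem_kappa_part hK (h ▸ Subgroup.mem_sup_left ha)
      fun _ hp hd => (kappa_elem_primes hA ha hp hd).2.2.1)
    (fun _ hk => mem_kappa_part hA (h.symm ▸ Subgroup.mem_sup_left hk)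
      fun _ hp hd => (kappa_elem_primes hK hk hp hd).2.2.1)

variable (hG : Cfsg.IsMinSimpleOddOrder G) (hI : Inputs G)

include hG hI in
/-- The elements of `K*` are `κ(L)`-elements for a suitable `L`. -/
theorem kst_primes_kappa {M K L : Subgroup G} (hM : IsCoatom M)
    (hK : Cfsg.IsPiHallOf (Cfsg.kappa M) K M) (hK1 : K ≠ ⊥) (hL : IsCoatom L)
    (hdis : ∀ p ∈ Cfsg.sigma M, p ∉ Cfsg.sigma L) (hCL : Kst(M, K) ≤ L) {x : G}
    (hx : x ∈ Cfsg.sigmaCore L) (hx1 : x ≠ 1) (hxC : ∀ c ∈ Kst(M, K), c * x = x * c) :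
    ∀ c ∈ Kst(M, K), ∀ p : ℕ, p.Prime → p ∣ orderOf c → p ∈ Cfsg.kappa L := by
  intro c hc p hp hd
  have hc1 : c ≠ 1 := fun e => hp.not_dvd_one (orderOf_one (G := G) ▸ e ▸ hd)
  have hσ : ∀ r : ℕ, r.Prime → r ∣ orderOf c → r ∉ Cfsg.sigma L :=
    fun r hr hrd => hdis r (kst_sigma hc hr hrd)
  rcases sigma_element_centralizer_dichotomy hG hI L hL x hx hx1 c
    ⟨hCL hc, Subgroup.mem_centralizer_singleton_iff.mpr (hxC c hc)⟩ hc1 hσ with ⟨h, -⟩ | ⟨-, -, -, huniq⟩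
  · exact h p hp hd
  · exact absurd ((huniq M hM (centralizer_kstar_le hG hI hM hK hK1 hc hc1)) ▸ kst_sigma hc hp hd)
      (hdis p (kst_sigma hc hp hd))

include hG hI in
/-- **BG 14.7**: the partner over the normalizer of a subgroup of prime order of `K`. -/
theorem exists_partner {M K X : Subgroup G} (hM : IsCoatom M)
    (hK : Cfsg.IsPiHallOf (Cfsg.kappa M) K M) (hK1 : K ≠ ⊥) (hXK : X ≤ K) {q : ℕ} [hq : Fact q.Prime]
    (hXc : Nat.card X = q) :
    ∃ L A : Subgroup G, IsCoatom L ∧ Cfsg.IsPiHallOf (Cfsg.kappa L) A L ∧ A ≠ ⊥ ∧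
      Subgroup.normalizer (X : Set G) ≤ L ∧ A ⊔ Kst(L, A) = K ⊔ Kst(M, K) ∧
      Kst(M, K) ≤ A ∧ Kst(L, A) ≤ K ∧ X ≤ Kst(L, A) ∧ q ∈ Cfsg.sigma L := by
  have hXp : IsPGroup q X := IsPGroup.of_card (n := 1) (by rw [hXc, pow_one])
  have hX1 : X ≠ ⊥ := fun h => hq.out.ne_one (by rw [← hXc, h, Subgroup.card_bot])
  obtain ⟨x', hx'⟩ := exists_prime_orderOf_dvd_card' (G := X) q (by rw [hXc])
  set x : G := (x' : G) with hx
  have hxo : orderOf x = q := by rw [hx, Subgroup.orderOf_coe, hx']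
  have hx1 : x ≠ 1 := fun h => hq.out.ne_one (by rw [← hxo, h, orderOf_one])
  have hXx : X = Subgroup.zpowers x := (Subgroup.eq_of_le_of_card_ge (Subgroup.zpowers_le.mpr x'.2)
    (by rw [hXc, Nat.card_zpowers, hxo])).symm
  have hxK : x ∈ K := hXK x'.2
  have hqκ : q ∈ Cfsg.kappa M := kappa_elem_primes hK hxK hq.out (by rw [hxo])
  obtain ⟨L, hL, hNL⟩ := exists_isCoatom_ge
    (minSimple_normalizer_ne_top hG hX1 (minSimple_pgroup_ne_top hG hXp))
  obtain ⟨hqL, hXL⟩ := mem_sigma_of_kappa hG hI hM hqκ hXc (hXK.trans hK.1) hL hNL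
  have hxLσ : x ∈ Cfsg.sigmaCore L := hXL x'.2
  have hCxN : Subgroup.centralizer ({x} : Set G) ≤ Subgroup.normalizer (X : Set G) :=
    hXx ▸ centralizer_zpowers_le_normalizer x
  have hdis : ∀ p ∈ Cfsg.sigma M, p ∉ Cfsg.sigma L := fun p hp hpL =>
    hqκ.2.2.1 (sigma_eq_of_sigma hI.disjoint hM hL hp hpL ▸ hqL)
  have hxC : ∀ c ∈ Kst(M, K), c * x = x * c := fun c hc =>
    (Subgroup.mem_centralizer_iff.mp (Subgroup.mem_inf.mp hc).2 x hxK).symm
  have hCL : Kst(M, K) ≤ L := fun c hc =>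
    hNL (hCxN (Subgroup.mem_centralizer_singleton_iff.mpr (hxC c hc)))
  have hκC := kst_primes_kappa hG hI hM hK hK1 hL hdis hCL hxLσ hx1 hxC
  obtain ⟨A, hA, hCA⟩ := exists_hall_kappa_ge hG hI hL hCL fun p hp hd => by
    have := Fact.mk hp
    obtain ⟨c, hc⟩ := exists_prime_orderOf_dvd_card' (G := ↥(Kst(M, K))) p hd
    exact hκC c c.2 p hp (by rw [Subgroup.orderOf_coe, hc])
  have hA1 : A ≠ ⊥ := fun h => kstar_ne_bot hI hM hK hK1 (le_bot_iff.mp (h ▸ hCA))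
  obtain ⟨r, hr, hrd⟩ := Nat.exists_prime_and_dvd (n := Nat.card ↥(Kst(M, K)))
    fun h => kstar_ne_bot hI hM hK hK1 (Subgroup.card_eq_one.mp h)
  have := Fact.mk hr
  obtain ⟨y', hy'⟩ := exists_prime_orderOf_dvd_card' (G := ↥(Kst(M, K))) r hrd
  set y : G := (y' : G) with hy
  have hyo : orderOf y = r := by rw [hy, Subgroup.orderOf_coe, hy']
  have hy1 : y ≠ 1 := fun h => hr.ne_one (by rw [← hyo, h, orderOf_one])
  have hyC : y ∈ Kst(M, K) := y'.2
  have hyA : y ∈ A := hCA hyC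
  set Y := Subgroup.zpowers y with hY
  have hYA : Y ≤ A := Subgroup.zpowers_le.mpr hyA
  have hYc : Nat.card Y = r := by rw [hY, Nat.card_zpowers, hyo]
  have hDy : Kst(L, A) = Cfsg.sigmaCore L ⊓ Subgroup.centralizer ({y} : Set G) :=
    ((hI.kappaHall L hL A hA hA1).1 y hyA hy1).symm
  have hxD : x ∈ Kst(L, A) := by
    rw [hDy]
    exact ⟨hxLσ, Subgroup.mem_centralizer_singleton_iff.mpr (hxC y hyC).symm⟩
  have hDM : Kst(L, A) ≤ M :=
    hDy.le.trans (inf_le_right.trans (centralizer_kstar_le hG hI hM hK hK1 hyC hy1))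
  have hAY : A ≤ Subgroup.normalizer (Y : Set G) := fun a ha => mem_normalizer_of_cj_eq
    (kappa_prime_subgroup_unique hI hL hA hA1 hr hYA
      ((cj_mono hYA).trans (cj_eq_of_mem ha).le) hYc (by rw [card_cj, hYc]))
  have hAM : A ≤ M := fun a ha => mem_of_conj_kstar hG hI hM hK hK1 hyC hy1
    (Subgroup.zpowers_le.mpr (kst_le M K hyC)
      ((Subgroup.mem_normalizer_iff.mp (hAY ha) y).mp (Subgroup.mem_zpowers y)))
  obtain ⟨hN, -, -⟩ := (hI.kappaHall M hM K hK hK1).2.2 X hXK (hXc.symm ▸ hq.out)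
  have hAZ : A ≤ K ⊔ Kst(M, K) := fun a ha => hN.le ⟨hAM ha, hCxN
    (Subgroup.mem_centralizer_singleton_iff.mpr (Subgroup.mem_centralizer_iff.mp (Subgroup.mem_inf.mp hxD).2 a ha))⟩
  have hyD : ∀ z ∈ Kst(L, A), z * y = y * z :=
    fun z hz => (Subgroup.mem_centralizer_iff.mp (Subgroup.mem_inf.mp hz).2 y hyA).symm
  have hκD := kst_primes_kappa hG hI hL hA hA1 hM (fun p hp hpM => hdis p hpM hp) hDM
    (Subgroup.mem_inf.mp hyC).1 hy1 hyD
  obtain ⟨K', hK', hDK'⟩ := exists_hall_kappa_ge hG hI hM hDM fun p hp hd => by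
    have := Fact.mk hp
    obtain ⟨c, hc⟩ := exists_prime_orderOf_dvd_card' (G := ↥(Kst(L, A))) p hd
    exact hκD c c.2 p hp (by rw [Subgroup.orderOf_coe, hc])
  have hXD : X ≤ Kst(L, A) := hXx ▸ Subgroup.zpowers_le.mpr hxD
  have hK'1 : K' ≠ ⊥ := fun h => hX1 (le_bot_iff.mp (h ▸ hXD.trans hDK'))
  have hDK : Kst(L, A) ≤ K := fun z hz => mem_kappa_part hK
    (hN.le ⟨hDM hz, mem_normalizer_of_cj_eq (kappa_prime_subgroup_unique hI hM hK' hK'1 hq.out
      (hXD.trans hDK') ((cj_mono (hXD.trans hDK')).trans (cj_eq_of_mem (hDK' hz)).le) hXc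
      (by rw [card_cj, hXc]))⟩)
    fun p hp hd => (hκD z hz p hp hd).2.2.1
  obtain ⟨hN', -, -⟩ := (hI.kappaHall L hL A hA hA1).2.2 Y hYA (hYc.symm ▸ hr)
  refine ⟨L, A, hL, hA, hA1, hNL, le_antisymm (sup_le hAZ (hDK.trans le_sup_left)) ?_, hCA, hDK, hXD, hqL⟩
  rw [← hN']
  refine sup_le (fun k hk => ⟨hNL (hN.ge (Subgroup.mem_sup_left hk)).2, centralizer_zpowers_le_normalizer y
    (Subgroup.mem_centralizer_singleton_iff.mpr (Subgroup.mem_centralizer_iff.mp (Subgroup.mem_inf.mp hyC).2 k hk))⟩)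
    (le_inf hCL (hCA.trans hAY))

/-! ### Members -/

omit [Finite G] in
theorem Member.self {M K : Subgroup G} (hM : IsCoatom M) (hK : Cfsg.IsPiHallOf (Cfsg.kappa M) K M)
    (hK1 : K ≠ ⊥) : Member (K ⊔ Kst(M, K)) M := ⟨hM, K, hK, hK1, rfl⟩

omit [Finite G] in
theorem Member.le {Z N : Subgroup G} (h : Member Z N) : Z ≤ N := by
  obtain ⟨-, A, hA, -, rfl⟩ := h
  exact kappa_sup_le hA

include hG hI in
theorem Member.eq_of_sigma {Z N N' : Subgroup G} (h : Member Z N) (h' : Member Z N') {p : ℕ}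
    (hp : p ∈ Cfsg.sigma N) (hp' : p ∈ Cfsg.sigma N') : N' = N := by
  obtain ⟨hN, A, hA, hA1, hZ⟩ := h
  obtain ⟨g, rfl⟩ := exists_cj_eq_of_sigma hI.disjoint hN h'.1 hp hp'
  obtain ⟨y, hy, hy1⟩ := (Subgroup.bot_or_exists_ne_one _).resolve_left (kstar_ne_bot hI hN hA hA1)
  have hy' : y ∈ cj g N := h'.le (hZ ▸ Subgroup.mem_sup_right hy)
  have hg : g⁻¹ ∈ N := mem_of_conj_kstar hG hI hN hA hA1 hy hy1 (by simpa using mem_cj.mp hy')
  exact cj_eq_of_mem (by simpa using inv_mem hg)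

include hG hI in
theorem Member.exists_sigma {M K : Subgroup G} (hM : IsCoatom M)
    (hK : Cfsg.IsPiHallOf (Cfsg.kappa M) K M) (hK1 : K ≠ ⊥) {p : ℕ} (hp : p.Prime)
    (hd : p ∣ Nat.card ↥(K ⊔ Kst(M, K))) :
    ∃ N : Subgroup G, Member (K ⊔ Kst(M, K)) N ∧ p ∈ Cfsg.sigma N := by
  rcases hp.dvd_mul.mp (hd.trans (card_sup_dvd_mul (kst_le_normalizer M K))) with h | h
  · have := Fact.mk hp
    obtain ⟨k, hk⟩ := exists_prime_orderOf_dvd_card' (G := K) p h
    obtain ⟨L, A, hL, hA, hA1, -, hZ, -, -, -, hpL⟩ := exists_partner hG hI hM hK hK1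
      (X := Subgroup.zpowers (k : G)) (Subgroup.zpowers_le.mpr k.2)
      (q := p) (by rw [Nat.card_zpowers, Subgroup.orderOf_coe, hk])
    exact ⟨L, ⟨hL, A, hA, hA1, hZ⟩, hpL⟩
  · exact ⟨M, Member.self hM hK hK1, piNat_card_piCoreOf (Cfsg.sigma M) M p hp
      (h.trans (Subgroup.card_dvd_of_le inf_le_left))⟩

/-! ### The counting -/

/-- `M` is not of type `P₁`: a prime outside `σ(M) ∪ κ(M)` divides `|M|`. -/
def NotTypeOne (M : Subgroup G) : Prop :=
  ∃ r : ℕ, r.Prime ∧ r ∣ Nat.card M ∧ r ∉ Cfsg.sigma M ∧ r ∉ Cfsg.kappa M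

omit [Finite G] in
theorem not_notTypeOne {M : Subgroup G} (h : ¬ NotTypeOne M) :
    ∀ q : ℕ, q.Prime → q ∣ Nat.card M → q ∉ Cfsg.sigma M → q ∈ Cfsg.kappa M :=
  fun q hq hd hσ => by_contra fun hκ => h ⟨q, hq, hd, hσ, hκ⟩

include hG hI in
/-- For `M` not of type `P₁` the Hall `κ`-subgroup has prime order. -/
theorem card_prime_of_not_type_one {M K : Subgroup G} (hM : IsCoatom M)
    (hK : Cfsg.IsPiHallOf (Cfsg.kappa M) K M) (hK1 : K ≠ ⊥) (h : NotTypeOne M) :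
    (Nat.card K).Prime := by
  obtain ⟨r, hr, hrM, hrσ, hrκ⟩ := h
  have := Fact.mk hr
  obtain ⟨P, hPM, hPc, hKP, hPC, -⟩ := exists_fpf_subgroup hG hI hM hK hK1 hrM hrσ hrκ
  set S := Cfsg.sigmaCore M with hS
  have := minSimple_solvable hG hM.1
  have hsolv : Group.IsSolvable S :=
    solvable_of_solvable_injective (Subgroup.inclusion_injective (sigmaCore_le M))
  have hform : ∀ E : Subgroup G, E ≤ K → E ≠ ⊥ →
      Nat.card S = Nat.card ↥(S ⊓ Subgroup.centralizer (K : Set G)) ^ Nat.card E := by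
    intro E hEK hE1
    have hEP : E ≤ Subgroup.normalizer (P : Set G) := hEK.trans hKP
    have hfpf : ∀ e ∈ E, e ≠ 1 → ∀ u ∈ P, e * u = u * e → u = 1 := by
      intro e he he1 u hu heu
      by_contra hu1
      obtain ⟨p, hp, hpd⟩ := Nat.exists_prime_and_dvd (n := orderOf u)
        fun h => hu1 (orderOf_eq_one_iff.mp h)
      have hpr := hPc p hp (hpd.trans (Subgroup.orderOf_dvd_natCard _ hu))
      rcases mem_kappa_union_sigma_of_commute hG hI hM hK (hEK he) he1 (hPM hu) heu hp hpd with h1 | h1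
      · exact hrκ (hpr ▸ h1)
      · exact hrσ (hpr ▸ h1)
    have hcop : (Nat.card S).Coprime (Nat.card ↥(P ⊔ E)) := Nat.coprime_of_dvd fun p hp h1 h2 => by
      have hpσ : p ∈ Cfsg.sigma M := piNat_card_piCoreOf (Cfsg.sigma M) M p hp h1
      rw [sup_comm] at h2
      rcases hp.dvd_mul.mp (h2.trans (card_sup_dvd_mul hEP)) with h3 | h3
      · exact (hK.2.1 p hp (h3.trans (Subgroup.card_dvd_of_le hEK))).2.2.1 hpσ
      · exact hrσ (hPc p hp h3 ▸ hpσ)
    have hf := FixedFormula.fixed_formula P E hE1 hEP (FixedFormula.coprime_of_fpf hEP hfpf) hfpf S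
      ((sup_le hPM (hEK.trans hK.1)).trans (piCoreOf_normal _ _)) hsolv hcop
    obtain ⟨e, he, he1⟩ := (Subgroup.bot_or_exists_ne_one E).resolve_left hE1
    have hSE : S ⊓ Subgroup.centralizer (E : Set G) = S ⊓ Subgroup.centralizer (K : Set G) :=
      le_antisymm ((inf_le_inf le_rfl (Subgroup.centralizer_le (Set.singleton_subset_iff.mpr he))).trans
        ((hI.kappaHall M hM K hK hK1).1 e (hEK he) he1).le)
        (inf_le_inf le_rfl (Subgroup.centralizer_le fun _ hx => hEK hx))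
    have hSPE : S ⊓ Subgroup.centralizer ((P ⊔ E : Subgroup G) : Set G) = ⊥ :=
      le_bot_iff.mp (hPC ▸ inf_le_inf le_rfl (Subgroup.centralizer_le fun _ hz => Subgroup.mem_sup_left hz))
    rwa [hSE, hPC, hSPE, Subgroup.card_bot, one_pow, one_mul, mul_one] at hf
  obtain ⟨q, hq, hqd⟩ := Nat.exists_prime_and_dvd (n := Nat.card K) fun e => hK1 (Subgroup.card_eq_one.mp e)
  have := Fact.mk hq
  obtain ⟨a, ha⟩ := exists_prime_orderOf_dvd_card' (G := K) q hqd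
  have hc : Nat.card (Subgroup.zpowers (a : G)) = q := by rw [Nat.card_zpowers, Subgroup.orderOf_coe, ha]
  have h1 := (hform (Subgroup.zpowers (a : G)) (Subgroup.zpowers_le.mpr a.2)
    fun e => hq.ne_one (by rw [← hc, e, Subgroup.card_bot])).symm.trans (hform K le_rfl hK1)
  rw [hc] at h1
  have hc2 : 2 ≤ Nat.card ↥(S ⊓ Subgroup.centralizer (K : Set G)) :=
    (Subgroup.one_lt_card_iff_ne_bot _).mpr (kstar_ne_bot hI hM hK hK1)
  exact Nat.pow_right_injective hc2 h1 ▸ hq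

include hG hI in
theorem three_mul_card_kst_le {L A : Subgroup G} (hL : IsCoatom L)
    (hA : Cfsg.IsPiHallOf (Cfsg.kappa L) A L) (hA1 : A ≠ ⊥) :
    3 * Nat.card ↥(Kst(L, A)) ≤ Nat.card ↥(Cfsg.sigmaCore L) := by
  set D := Kst(L, A) with hD
  obtain ⟨p, hp, hpd⟩ := Nat.exists_prime_and_dvd (n := Nat.card D)
    fun h => kstar_ne_bot hI hL hA hA1 (Subgroup.card_eq_one.mp h)
  have := Fact.mk hp
  obtain ⟨T⟩ : Nonempty (Sylow p ↥(Cfsg.sigmaCore L)) := inferInstance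
  have hne := (sylow_kstar hG hI hL hA hA1 hpd (sylowOf_map T)).2.2
  obtain ⟨j, hj⟩ := Subgroup.card_dvd_of_le (inf_le_left : D ≤ Cfsg.sigmaCore L)
  obtain ⟨i, hi⟩ : Odd (Nat.card ↥(Cfsg.sigmaCore L)) := minSimple_odd hG _
  rw [hj, mul_comm]
  refine Nat.mul_le_mul_left _ ?_
  rcases Nat.lt_or_ge j 3 with hj3 | hj3
  swap
  · exact hj3
  interval_cases j
  · rw [mul_zero] at hj
    exact absurd hj Nat.card_pos.ne'
  · refine absurd ((Subgroup.map_subtype_le (T : Subgroup ↥(Cfsg.sigmaCore L))).trans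
      (Subgroup.eq_of_le_of_card_ge (inf_le_left : D ≤ Cfsg.sigmaCore L) ?_).ge) hne
    rw [hj, mul_one]
  · omega

theorem count_member {g k c s t : ℕ} (hs : 3 * c ≤ s) (hc : 1 ≤ c) (h : g * (s - 1) ≤ k * s * t) :
    g * (3 * c - 1) ≤ 3 * (k * c) * t := by
  obtain ⟨s, rfl⟩ : ∃ s', s = s' + 1 := ⟨s - 1, by omega⟩
  rw [Nat.add_sub_cancel] at h
  refine Nat.le_of_mul_le_mul_right ?_ (Nat.succ_pos s)
  have h1 : (3 * c - 1) * (s + 1) ≤ 3 * c * s := by
    obtain ⟨d, hd⟩ : ∃ d, 3 * c = d + 1 := ⟨3 * c - 1, by omega⟩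
    rw [hd, Nat.add_sub_cancel]
    rw [hd] at hs
    nlinarith
  calc g * (3 * c - 1) * (s + 1) = g * ((3 * c - 1) * (s + 1)) := by ring
    _ ≤ g * (3 * c * s) := Nat.mul_le_mul_left _ h1
    _ = 3 * c * (g * s) := by ring
    _ ≤ 3 * c * (k * (s + 1) * t) := Nat.mul_le_mul_left _ h
    _ = 3 * (k * c) * t * (s + 1) := by ring

/-- The elements of `Z` outside every `N_σ`. -/
def innerSet (Z : Subgroup G) : Set G := {z | z ∈ Z ∧ ∀ N, Member Z N → z ∉ Cfsg.sigmaCore N}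

theorem innerSet_coords {N A : Subgroup G} (hN : IsCoatom N) (hA : Cfsg.IsPiHallOf (Cfsg.kappa N) A N)
    (hA1 : A ≠ ⊥) {z : G} (hz : z ∈ innerSet (A ⊔ Kst(N, A))) :
    ∃ a ∈ A, a ≠ 1 ∧ ∃ c ∈ Kst(N, A), z = a * c ∧ Commute a c ∧ orderOf z = orderOf a * orderOf c := by
  obtain ⟨a, ha, c, hc, he, hcomm, ho⟩ := exists_coords hA hz.1
  refine ⟨a, ha, fun h => hz.2 N (Member.self hN hA hA1) ?_, c, hc, he, hcomm, ho⟩
  rw [he, h, one_mul]
  exact (Subgroup.mem_inf.mp hc).1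

omit [Finite G] in
theorem innerSet_invariant {Z : Subgroup G} [Finite G] :
    ∀ z ∈ innerSet Z, ∀ w ∈ Z, w * z * w⁻¹ ∈ innerSet Z := by
  intro z hz w hw
  refine ⟨mul_mem (mul_mem hw hz.1) (inv_mem hw), fun N hN h => hz.2 N hN ?_⟩
  exact (Subgroup.mem_normalizer_iff.mp (piCoreOf_normal _ _ (hN.le hw)) z).mpr h

include hG hI in
theorem innerSet_TI {M K : Subgroup G} (hM : IsCoatom M) (hK : Cfsg.IsPiHallOf (Cfsg.kappa M) K M)
    (hK1 : K ≠ ⊥) : ∀ h : G, ∀ z ∈ innerSet (K ⊔ Kst(M, K)),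
      h * z * h⁻¹ ∈ innerSet (K ⊔ Kst(M, K)) → h ∈ K ⊔ Kst(M, K) := by
  intro h z hz hz'
  have hz1 : z ≠ 1 := fun e => hz.2 M (Member.self hM hK hK1) (e ▸ one_mem _)
  obtain ⟨p, hp, hd⟩ := Nat.exists_prime_and_dvd (n := orderOf z) fun e => hz1 (orderOf_eq_one_iff.mp e)
  obtain ⟨N, ⟨hN, A, hA, hA1, hZ⟩, hpN⟩ :=
    Member.exists_sigma hG hI hM hK hK1 hp (hd.trans (Subgroup.orderOf_dvd_natCard _ hz.1))
  rw [← hZ] at hz hz' ⊢
  obtain ⟨a, ha, ha1, c, hc, rfl, hcomm, ho⟩ := innerSet_coords hN hA hA1 hz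
  obtain ⟨a', ha', -, c', hc', he, hcomm', -⟩ := innerSet_coords hN hA hA1 hz'
  have hc1 : c ≠ 1 := fun e => by
    rw [ho, e, orderOf_one, mul_one] at hd
    exact (kappa_elem_primes hA ha hp hd).2.2.1 hpN
  have hceq : h * c * h⁻¹ = c' := by
    refine eq_of_parts (hcomm.symm.map (MulAut.conj h)) hcomm'.symm ?_ (Nat.coprime_of_dvd fun r hr h1 h2 => ?_)
    · rw [← hcomm'.eq, ← he]
      show h * c * h⁻¹ * (h * a * h⁻¹) = h * (a * c) * h⁻¹
      rw [show h * c * h⁻¹ * (h * a * h⁻¹) = h * (c * a) * h⁻¹ by group, hcomm.eq]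
    · rw [MulAut.conj_apply, show h * a * h⁻¹ = MulAut.conj h a from rfl, MulEquiv.orderOf_eq] at h1
      rw [show h * c * h⁻¹ = MulAut.conj h c from rfl, MulEquiv.orderOf_eq] at h2
      have hrσ : r ∈ Cfsg.sigma N := (hr.dvd_mul.mp h2).elim (kst_sigma hc hr) (kst_sigma hc' hr)
      exact (hr.dvd_mul.mp h1).elim (fun e => (kappa_elem_primes hA ha hr e).2.2.1 hrσ)
        (fun e => (kappa_elem_primes hA ha' hr e).2.2.1 hrσ)
  have hhN : h ∈ N := mem_of_conj_kstar hG hI hN hA hA1 hc hc1 (hceq.symm ▸ kst_le N A hc')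
  have haeq : h * a * h⁻¹ = a' := mul_right_cancel (b := c') (by
    rw [← he, ← hceq]; group)
  by_contra hnot
  have hin : a' ∈ A ⊓ cj h A := ⟨ha', haeq ▸ mem_cj_self.mpr ha⟩
  rw [kappa_inf_conj hG hI hN hA hA1 hhN hnot, Subgroup.mem_bot, ← haeq] at hin
  exact ha1 (by simpa using hin)

include hG hI in
theorem innerSet_disjoint_tilde {N A : Subgroup G} (hN : IsCoatom N)
    (hA : Cfsg.IsPiHallOf (Cfsg.kappa N) A N) (hA1 : A ≠ ⊥) {z : G}
    (hz : z ∈ innerSet (A ⊔ Kst(N, A))) (g : G) : g * z * g⁻¹ ∉ tildeSet N := by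
  obtain ⟨a, ha, ha1, c, hc, rfl, hcomm, ho⟩ := innerSet_coords hN hA hA1 hz
  by_cases hc1 : c = 1
  · rintro ⟨g', x, hx, hx1, r, hr, he⟩
    obtain ⟨p, hp, hd⟩ := Nat.exists_prime_and_dvd (n := orderOf x) fun e => hx1 (orderOf_eq_one_iff.mp e)
    have hcop : (orderOf x).Coprime (orderOf r) := Nat.coprime_of_dvd fun t ht h1 h2 =>
      not_mem_sigma_of_supportR hG hI hN hx hx1 hr ht h2 (mem_sigma_of_mem_sigmaCore hx ht h1)
    have e := congrArg orderOf he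
    rw [show g * (a * c) * g⁻¹ = MulAut.conj g (a * c) from rfl,
      show g' * (x * r) * g'⁻¹ = MulAut.conj g' (x * r) from rfl, MulEquiv.orderOf_eq, MulEquiv.orderOf_eq,
      (supportR_spec hG hI hN hx hx1 hr).1.orderOf_mul_eq_mul_orderOf_of_coprime hcop, hc1, mul_one] at e
    exact (kappa_elem_primes hA ha hp (e ▸ hd.mul_right _)).2.2.1 (mem_sigma_of_mem_sigmaCore hx hp hd)
  · rw [hcomm.eq]
    exact not_mem_tildeSet hG hI hN hA hA1 ha ha1 hc hc1 g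

include hG hI in
/-- **BG 14.7, counting**: not all members are of type `P₁`. -/
theorem exists_member_not_type_one {M K : Subgroup G} (hM : IsCoatom M)
    (hK : Cfsg.IsPiHallOf (Cfsg.kappa M) K M) (hK1 : K ≠ ⊥) :
    ∃ N A : Subgroup G, IsCoatom N ∧ Cfsg.IsPiHallOf (Cfsg.kappa N) A N ∧ A ≠ ⊥ ∧
      A ⊔ Kst(N, A) = K ⊔ Kst(M, K) ∧ NotTypeOne N := by
  classical
  by_contra hcon
  set Z := K ⊔ Kst(M, K) with hZdef
  set 𝔏 := (Set.toFinite {N : Subgroup G | Member Z N}).toFinset with h𝔏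
  have hmem : ∀ {N}, N ∈ 𝔏 ↔ Member Z N := fun {N} => by simp [h𝔏]
  have hP1 : ∀ N, Member Z N → ∀ q : ℕ, q.Prime → q ∣ Nat.card N → q ∉ Cfsg.sigma N → q ∈ Cfsg.kappa N :=
    fun N ⟨hN, A, hA, hA1, hZ⟩ => not_notTypeOne fun h => hcon ⟨N, A, hN, hA, hA1, hZ, h⟩
  set T := fun N : Subgroup G => (tildeSet N).ncard with hT
  set c := fun N : Subgroup G => Nat.card ↥(Z ⊓ Cfsg.sigmaCore N) with hc
  set g := Nat.card G with hg
  set z := Nat.card Z with hz
  -- one member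
  have hC : ∀ N A : Subgroup G, IsCoatom N → Cfsg.IsPiHallOf (Cfsg.kappa N) A N → A ⊔ Kst(N, A) = Z →
      Z ⊓ Cfsg.sigmaCore N = Kst(N, A) := fun N A hN hA hZ => by
    refine le_antisymm (fun w hw => ?_) (le_inf (hZ ▸ le_sup_right) inf_le_left)
    exact sup_kstar_inf_sigma hA (hZ.symm ▸ (Subgroup.mem_inf.mp hw).1) (Subgroup.mem_inf.mp hw).2
  have hone : ∀ N ∈ 𝔏, g * (3 * c N - 1) ≤ 3 * z * T N ∧ 1 ≤ c N := by
    intro N hNm
    obtain ⟨hN, A, hA, hA1, hZ⟩ := hmem.mp hNm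
    have h1 := card_tildeSet_ge hG hI hN
    rw [card_eq_of_type_one hG hN hA (hP1 N (hmem.mp hNm))] at h1
    have hzk : z = Nat.card A * c N := by
      rw [hz, hc, ← hZ]
      simp only []
      rw [hZ, hC N A hN hA hZ, ← hZ]
      refine CfsgLib.Coprime.card_sup_of_disjoint (kst_le_normalizer N A) ((Subgroup.eq_bot_iff_forall _).mpr fun w hw => ?_)
      by_contra hw1
      obtain ⟨p, hp, hd⟩ := Nat.exists_prime_and_dvd (n := orderOf w) fun e => hw1 (orderOf_eq_one_iff.mp e)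
      exact (kappa_elem_primes hA (Subgroup.mem_inf.mp hw).2 hp hd).2.2.1
        (kst_sigma (Subgroup.mem_inf.mp hw).1 hp hd)
    have hc1 : 1 ≤ c N := Nat.card_pos
    refine ⟨?_, hc1⟩
    rw [hzk]
    refine count_member ?_ hc1 h1
    simp only [hc]
    rw [hC N A hN hA hZ]
    exact three_mul_card_kst_le hG hI hN hA hA1
  -- the inner set
  set W := innerSet Z with hW
  set TW := {a : G | ∃ g : G, ∃ w ∈ W, a = g * w * g⁻¹} with hTW
  have hcount : z * TW.ncard = W.ncard * g :=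
    card_conjugates_of_invariant innerSet_invariant (innerSet_TI hG hI hM hK hK1)
  -- the disjoint union
  have hdisj : (↑𝔏 : Set (Subgroup G)).PairwiseDisjoint tildeSet := fun N hN N' hN' hne =>
    tildeSet_disjoint hG hI (hmem.mp hN).1 (hmem.mp hN').1 fun p hp hp' =>
      hne (Member.eq_of_sigma hG hI (hmem.mp hN) (hmem.mp hN') hp hp').symm
  have hTsum : (⋃ N ∈ 𝔏, tildeSet N).ncard = ∑ N ∈ 𝔏, T N :=
    (Set.Finite.ncard_biUnion 𝔏.finite_toSet (fun _ _ => Set.toFinite _) hdisj).trans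
      (by rw [finsum_mem_coe_finset])
  have hsum : (∑ N ∈ 𝔏, T N) + TW.ncard ≤ g := by
    rw [← hTsum, ← Set.ncard_union_eq]
    · exact Set.ncard_le_card _
    · refine Set.disjoint_left.mpr fun a ha hb => ?_
      obtain ⟨N, hN, haN⟩ := Set.mem_iUnion₂.mp ha
      obtain ⟨hN', A, hA, hA1, hZ⟩ := hmem.mp hN
      obtain ⟨h, w, hw, rfl⟩ := hb
      exact innerSet_disjoint_tilde hG hI hN' hA hA1 (hZ.symm ▸ hw) h haN
  -- the cover of `Z`
  have hcover : (Z : Set G) ⊆ (W ∪ {1}) ∪ ⋃ N ∈ 𝔏, ((↑(Z ⊓ Cfsg.sigmaCore N) : Set G) \ {1}) := by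
    intro w hw
    by_cases hw1 : w = 1
    · exact Or.inl (Or.inr hw1)
    by_cases hin : ∃ N, Member Z N ∧ w ∈ Cfsg.sigmaCore N
    · obtain ⟨N, hN, hwN⟩ := hin
      exact Or.inr (Set.mem_iUnion₂.mpr ⟨N, hmem.mpr hN, ⟨hw, hwN⟩, hw1⟩)
    · exact Or.inl (Or.inl ⟨hw, fun N hN h => hin ⟨N, hN, h⟩⟩)
  have hzle : z ≤ W.ncard + 1 + ∑ N ∈ 𝔏, (c N - 1) := by
    refine (le_of_eq (Nat.card_coe_set_eq _)).trans ((Set.ncard_le_ncard hcover (Set.toFinite _)).trans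
      ((Set.ncard_union_le _ _).trans (Nat.add_le_add ((Set.ncard_union_le _ _).trans
        (by rw [Set.ncard_singleton])) ((Finset.set_ncard_biUnion_le _ _).trans
          (Finset.sum_le_sum fun N _ => le_of_eq ?_)))))
    rw [Set.ncard_sdiff_singleton_of_mem (Subgroup.one_mem _)]
    exact congrArg (· - 1) (Nat.card_coe_set_eq _).symm
  -- at least two members
  have hn : 2 ≤ 𝔏.card := by
    obtain ⟨q, hq, hqd⟩ := Nat.exists_prime_and_dvd (n := Nat.card K) fun e => hK1 (Subgroup.card_eq_one.mp e)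
    obtain ⟨N, hN, hqN⟩ := Member.exists_sigma hG hI hM hK hK1 hq
      (hqd.trans (Subgroup.card_dvd_of_le le_sup_left))
    exact Finset.one_lt_card.mpr ⟨M, hmem.mpr (Member.self hM hK hK1), N, hmem.mpr hN,
      fun e => (hK.2.1 q hq hqd).2.2.1 (e ▸ hqN)⟩
  have e1 : ∑ N ∈ 𝔏, (3 * c N - 1) = 3 * ∑ N ∈ 𝔏, (c N - 1) + 2 * 𝔏.card := by
    rw [Finset.mul_sum, mul_comm 2, ← smul_eq_mul (a := 𝔏.card), ← Finset.sum_const, ← Finset.sum_add_distrib]
    exact Finset.sum_congr rfl fun N hN => by have := (hone N hN).2; omega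
  have h3 : g * (∑ N ∈ 𝔏, (3 * c N - 1)) + 3 * (W.ncard * g) ≤ 3 * z * g := by
    rw [← hcount, Finset.mul_sum]
    refine (Nat.add_le_add_right (Finset.sum_le_sum fun N hN => (hone N hN).1) _).trans ?_
    rw [← Finset.mul_sum, ← mul_assoc, ← mul_add]
    exact Nat.mul_le_mul_left _ hsum
  have h4 : (∑ N ∈ 𝔏, (3 * c N - 1)) + 3 * W.ncard ≤ 3 * z := by
    refine Nat.le_of_mul_le_mul_left (?_ : g * _ ≤ g * _) (Nat.card_pos (α := G))
    rw [mul_add, mul_comm g (3 * z), show g * (3 * W.ncard) = 3 * (W.ncard * g) by ring]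
    exact h3
  omega

/-! ### The pair -/

include hG hI in
/-- **BG 14.7**: every `M` with `κ(M) ≠ ∅` has a partner `M*` with `K = K*_{M*}`, `K_{M*} = K*`. -/
theorem exists_pair {M K : Subgroup G} (hM : IsCoatom M) (hK : Cfsg.IsPiHallOf (Cfsg.kappa M) K M)
    (hK1 : K ≠ ⊥) :
    ∃ Mstar : Subgroup G, IsCoatom Mstar ∧
      K = Cfsg.sigmaCore Mstar ⊓ Subgroup.centralizer ((Kst(M, K) : Subgroup G) : Set G) ∧
      Cfsg.IsPiHallOf (Cfsg.kappa Mstar) (Kst(M, K)) Mstar ∧ (NotTypeOne M ∨ NotTypeOne Mstar) := by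
  obtain ⟨N, A, hN, hA, hA1, hZ, hP⟩ := exists_member_not_type_one hG hI hM hK hK1
  have hq := card_prime_of_not_type_one hG hI hN hA hA1 hP
  have := Fact.mk hq
  obtain ⟨L, B, hL, hB, hB1, -, hZ', hCB, hDA, hAD, hqL⟩ :=
    exists_partner hG hI hN hA hA1 (le_rfl : A ≤ A) (q := Nat.card A) rfl
  have hDA' : Kst(L, B) = A := le_antisymm hDA hAD
  have hBC : B = Kst(N, A) := le_antisymm (fun b hb => ?_) hCB
  swap
  · obtain ⟨a, ha, c, hc, rfl, -, ho⟩ := exists_coords hA (hZ'.le (Subgroup.mem_sup_left hb) : b ∈ A ⊔ Kst(N, A))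
    suffices a = 1 by rwa [this, one_mul]
    by_contra ha1
    refine (kappa_elem_primes hB hb hq ?_).2.2.1 hqL
    rw [ho]
    refine Dvd.dvd.mul_right ?_ _
    rcases (Nat.dvd_prime hq).mp (Subgroup.orderOf_dvd_natCard _ ha) with h | h
    · exact absurd (orderOf_eq_one_iff.mp h) ha1
    · exact h.symm.dvd
  have hmN : Member (K ⊔ Kst(M, K)) N := ⟨hN, A, hA, hA1, hZ⟩
  have hmL : Member (K ⊔ Kst(M, K)) L := ⟨hL, B, hB, hB1, hZ'.trans hZ⟩
  by_cases hMN : M = N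
  · subst hMN
    obtain rfl : A = K := hall_eq_of_sup_eq hK hA hZ
    exact ⟨L, hL, hDA'.symm.trans (by rw [hBC]), hBC ▸ hB, Or.inl hP⟩
  -- `M` is the partner of `N`
  have hKM : ∀ c ∈ Kst(M, K), c ∈ A := by
    intro c hc
    refine mem_kappa_part hA (hZ.symm ▸ Subgroup.mem_sup_right hc) fun p hp hd hpN => hMN ?_
    exact (Member.eq_of_sigma hG hI hmN (Member.self hM hK hK1) hpN (kst_sigma hc hp hd))
  obtain ⟨c, hc, hc1⟩ := (Subgroup.bot_or_exists_ne_one _).resolve_left (kstar_ne_bot hI hM hK hK1)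
  have hqM : Nat.card A ∈ Cfsg.sigma M := by
    refine kst_sigma hc hq ?_
    rcases (Nat.dvd_prime hq).mp (Subgroup.orderOf_dvd_natCard _ (hKM c hc)) with h | h
    · exact absurd (orderOf_eq_one_iff.mp h) hc1
    · exact h.symm.dvd
  obtain rfl : M = L := Member.eq_of_sigma hG hI hmL (Member.self hM hK hK1) hqL hqM
  obtain rfl : B = K := hall_eq_of_sup_eq hK hB (hZ'.trans hZ)
  exact ⟨N, hN, by rw [hDA']; exact hBC, hDA'.symm ▸ hA, Or.inr hP⟩

include hG hI in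
/-- The partner is unique. -/
theorem pair_unique {M K L L' : Subgroup G} (hM : IsCoatom M) (hK : Cfsg.IsPiHallOf (Cfsg.kappa M) K M)
    (hK1 : K ≠ ⊥) (hL : IsCoatom L)
    (hLst : K = Cfsg.sigmaCore L ⊓ Subgroup.centralizer ((Kst(M, K) : Subgroup G) : Set G))
    (hLH : Cfsg.IsPiHallOf (Cfsg.kappa L) (Kst(M, K)) L) (hL' : IsCoatom L')
    (hLst' : K = Cfsg.sigmaCore L' ⊓ Subgroup.centralizer ((Kst(M, K) : Subgroup G) : Set G))
    (hLH' : Cfsg.IsPiHallOf (Cfsg.kappa L') (Kst(M, K)) L') : L' = L := by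
  have hC1 := kstar_ne_bot hI hM hK hK1
  obtain ⟨p, hp, hd⟩ := Nat.exists_prime_and_dvd (n := Nat.card K) fun e => hK1 (Subgroup.card_eq_one.mp e)
  have h : ∀ {H : Subgroup G}, K ≤ Cfsg.sigmaCore H → p ∈ Cfsg.sigma H := fun hle =>
    piNat_card_piCoreOf _ _ p hp (hd.trans (Subgroup.card_dvd_of_le hle))
  exact Member.eq_of_sigma hG hI (Z := Kst(M, K) ⊔ K) ⟨hL, _, hLH, hC1, by rw [← hLst]⟩
    ⟨hL', _, hLH', hC1, by rw [← hLst']⟩ (h (hLst.le.trans inf_le_left)) (h (hLst'.le.trans inf_le_left))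

include hG hI in
/-- **BG 14.7**: Hall `κ`-subgroups are cyclic. -/
theorem kappa_cyclic {M K : Subgroup G} (hM : IsCoatom M) (hK : Cfsg.IsPiHallOf (Cfsg.kappa M) K M) :
    IsCyclic K := by
  by_cases hK1 : K = ⊥
  · subst hK1
    infer_instance
  obtain ⟨L, hL, hLst, hLH, hP⟩ := exists_pair hG hI hM hK hK1
  rcases hP with hP | ⟨r, hr, hrL, hrσ, hrκ⟩
  · have := Fact.mk (card_prime_of_not_type_one hG hI hM hK hK1 hP)
    exact isCyclic_of_prime_card rfl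
  have := Fact.mk hr
  obtain ⟨P, -, -, -, -, hnil⟩ :=
    exists_fpf_subgroup hG hI hL hLH (kstar_ne_bot hI hM hK hK1) hrL hrσ hrκ
  have hKS : K ≤ Cfsg.sigmaCore L := hLst.le.trans inf_le_left
  have hKnil : Group.IsNilpotent K := CfsgLib.Fitting.isNilpotent_of_le hnil hKS
  have hZ : IsZGroup K := ⟨fun p hp P => by
    have := Fact.mk hp
    by_cases hd : p ∣ Nat.card K
    swap
    · have hP : (P : Subgroup K) = ⊥ := by
        by_contra h
        exact hd ((Uniq.prime_dvd_card P.isPGroup' h).trans (Subgroup.card_subgroup_dvd_card _))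
      exact (isCyclic_of_surjective (MulEquiv.subgroupCongr hP).symm.toMonoidHom (MulEquiv.surjective _))
    obtain ⟨R, hR, hPR⟩ := exists_sylowOf_ge
      ((Subgroup.map_subtype_le (P : Subgroup K)).trans hK.1) (P.isPGroup'.map _)
    obtain ⟨T, hT⟩ := hR.toSylow
    have := ((hK.2.1 p hp hd).2.2.2 T).1
    have hRc : IsCyclic R := by
      rw [← hT]
      exact isCyclic_of_surjective ((T : Subgroup M).equivMapOfInjective M.subtype M.subtype_injective).toMonoidHom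
        (MulEquiv.surjective _)
    exact isCyclic_of_injective ((Subgroup.inclusion hPR).comp
      ((P : Subgroup K).equivMapOfInjective K.subtype K.subtype_injective).toMonoidHom)
      ((Subgroup.inclusion_injective hPR).comp (MulEquiv.injective _))⟩
  infer_instance

include hG hI in
theorem propKappaCyclic : PropKappaCyclic G := fun M hM =>
  ⟨hI.kappaExists M hM, fun _ hK => kappa_cyclic hG hI hM hK⟩

end CfsgLib.OddOrder40
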