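import Mathlib
import Cfsg.Agent.Lib.OddOrder.Sigma13Local
import Cfsg.Agent.Lib.OddOrder.Sigma12RegularMain
import Cfsg.Agent.Lib.OddOrder38.Main1434

/-!
# BG Theorem B: the factor `U` of the standard factorisation
-/

set_option autoImplicit false

namespace CfsgLib.OddOrder40

open Subgroup CfsgLib.OddOrder CfsgLib.OddOrder.Transitivity CfsgLib.OddOrder.Sigma11
open scoped commutatorElement

universe u

variable {G : Type u} [Group G] [Finite G] (hG : Cfsg.IsMinSimpleOddOrder G) {M : Subgroup G}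
  (hM : IsCoatom M)

include hM hG in
/-- Hall `κ(M)`-subgroups exist. -/
theorem kappa_hall_exists : ∃ K : Subgroup G, Cfsg.IsPiHallOf (Cfsg.kappa M) K M := by
  have : Group.IsSolvable M := minSimple_solvable hG hM.1
  obtain ⟨H, hH⟩ := Hall.exists_isPiHall (G := M) (Cfsg.kappa M)
  refine ⟨H.map M.subtype, Subgroup.map_subtype_le _, fun r hr hd => hH.1 r hr ?_, fun r hr hrκ hd =>
    hH.2 r hr hrκ ?_⟩
  · rwa [Subgroup.card_map_of_injective M.subtype_injective] at hd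
  · rwa [Subgroup.relIndex, Subgroup.subgroupOf,
      Subgroup.comap_map_eq_self_of_injective M.subtype_injective] at hd

theorem propKappaExists {G : Type u} [Group G] [Finite G] (hG : Cfsg.IsMinSimpleOddOrder G) :
    OddOrder38.PropKappaExists G := fun _ hM => kappa_hall_exists hG hM

include hG hM in
/-- An element outside `σ ∪ κ` fixing a point of `M_σ` is a `τ₂(M)`-element. -/
theorem tau2_of_fixed {x : G} (hx : x ∈ M) (hfix : x ∈ Cfsg.sigmaHat M) {r : ℕ} (hr : r.Prime)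
    (hd : r ∣ orderOf x) (hσ : r ∉ Cfsg.sigma M) (hκ : r ∉ Cfsg.kappa M) : r ∈ Cfsg.tau2 M := by
  have := Fact.mk hr
  refine (OddOrder38.tau2_or_rank_one hG hM hr hσ).resolve_right fun h1 => hκ ?_
  obtain ⟨-, y, hy, hy1, hxy⟩ := hfix
  obtain ⟨z, hz, hzo⟩ := OddOrder38.exists_mem_zpowers_prime hr hd
  exact OddOrder38.mem_kappa hG hM hσ h1 ((Subgroup.zpowers_le.mpr hx) hz) hzo hy hy1
    (Subgroup.mem_centralizer_singleton_iff.mp
      (OddOrder38.centralizer_le_of_mem_zpowers hz (Subgroup.mem_centralizer_singleton_iff.mpr hxy.symm))).symm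

variable {K U : Subgroup G} (hKU : Cfsg.IsSigmaDecomposition M K U)

include hG hM hKU in
theorem dvd_U_not_sigma {r : ℕ} (hr : r.Prime) (hd : r ∣ Nat.card U) :
    r ∉ Cfsg.sigma M ∧ r ∉ Cfsg.kappa M :=
  ⟨((OddOrder38.decomp_U_hall hG hM hKU).2.1 r hr hd).2.2, ((OddOrder38.decomp_U_hall hG hM hKU).2.1 r hr hd).2.1⟩

include hG hM hKU in
theorem mem_tau2_of_mem_hat {u : G} (hu : u ∈ U) (hfix : u ∈ Cfsg.sigmaHat M) {r : ℕ} (hr : r.Prime)
    (hd : r ∣ orderOf u) : r ∈ Cfsg.tau2 M :=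
  tau2_of_fixed hG hM (hKU.compl.1 hu) hfix hr hd
    (dvd_U_not_sigma hG hM hKU hr (hd.trans (Subgroup.orderOf_dvd_natCard U hu))).1
    (dvd_U_not_sigma hG hM hKU hr (hd.trans (Subgroup.orderOf_dvd_natCard U hu))).2

include hG hM hKU in
/-- A Sylow subgroup of `U` is one of `M`. -/
theorem sylowOf_U {p : ℕ} [Fact p.Prime] {P : Subgroup G} (hP : SylowOf p P U) (hpσ : p ∉ Cfsg.sigma M)
    (hpκ : p ∉ Cfsg.kappa M) : SylowOf p P M :=
  Sigma12.sylowOf_of_card_dvd hP hKU.compl.1 (m := U.relIndex M)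
    (card_mul_relIndex_of_le hKU.compl.1).symm.dvd
    ((OddOrder38.decomp_U_hall hG hM hKU).2.2 p Fact.out ⟨Fact.out, hpκ, hpσ⟩)

omit hM in
theorem not_kappa_of_tau2 {p : ℕ} (hp : p ∈ Cfsg.tau2 M) : p ∉ Cfsg.kappa M := fun h =>
  hp.2.2.2 (OddOrder38.pRankLE_one_of_kappa h)

include hG hM hKU in
/-- The complement `U ⊔ K` of `M_σ`. -/
theorem isComplIn_sup : Cfsg.IsComplIn (U ⊔ K) (Cfsg.sigmaCore M) M := by
  set S := Cfsg.sigmaCore M with hS
  have hSM : S ≤ M := piCoreOf_le _ _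
  refine ⟨sup_le hKU.compl.1 hKU.hall.1, hSM, ?_, fun m hm => ?_⟩
  · refine (Subgroup.eq_bot_iff_forall _).mpr fun x hx => ?_
    by_contra hx1
    obtain ⟨r, hr, hd⟩ := Nat.exists_prime_and_dvd (n := orderOf x) fun h => hx1 (orderOf_eq_one_iff.mp h)
    have hσ : r ∈ Cfsg.sigma M := OddOrder38.mem_sigma_of_mem_sigmaCore (Subgroup.mem_inf.mp hx).2 hr hd
    rcases hr.dvd_mul.mp ((hd.trans (Subgroup.orderOf_dvd_natCard _ (Subgroup.mem_inf.mp hx).1)).trans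
      (sup_comm K U ▸ Coprime.card_sup_dvd hKU.normal)) with h | h
    · exact (hKU.hall.2.1 r hr h).2.2.1 hσ
    · exact (dvd_U_not_sigma hG hM hKU hr h).1 hσ
  · obtain ⟨u, hu, w, hw, rfl⟩ := hKU.compl.2.2.2 m hm
    obtain ⟨k, hk, s, hs, rfl⟩ := Coprime.exists_mul_of_mem_sup
      (H := K) (N := S) (hKU.hall.1.trans (piCoreOf_normal _ _)) hw
    exact ⟨u * k, Subgroup.mul_mem_sup hu hk, s, hs, by group⟩

variable (hab : K ≠ ⊥ → IsMulCommutative U)

include hG hM hKU in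
theorem regular_hyp (hK0 : K = ⊥) : Cfsg.IsComplIn U (Cfsg.sigmaCore M) M ∧
    ∀ e ∈ U, e ≠ 1 → (∀ p : ℕ, p.Prime → p ∣ orderOf e → p ∈ Cfsg.tau1 M ∪ Cfsg.tau3 M) →
      Cfsg.sigmaCore M ⊓ Subgroup.centralizer ({e} : Set G) = ⊥ := by
  refine ⟨by simpa [hK0] using isComplIn_sup hG hM hKU, fun e he he1 hτ => ?_⟩
  refine (Subgroup.eq_bot_iff_forall _).mpr fun y hy => ?_
  by_contra hy1
  obtain ⟨hyS, hye⟩ := Subgroup.mem_inf.mp hy
  obtain ⟨r, hr, hd⟩ := Nat.exists_prime_and_dvd (n := orderOf e) fun h => he1 (orderOf_eq_one_iff.mp h)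
  have h2 := mem_tau2_of_mem_hat hG hM hKU he
    ⟨hKU.compl.1 he, y, hyS, hy1, (Subgroup.mem_centralizer_singleton_iff.mp hye).symm⟩ hr hd
  rcases hτ r hr hd with h | h
  · exact h2.2.2.2 h.2.2.2.2
  · exact h2.2.2.2 h.2.2.2

include hG hM hKU hab in
/-- An abelian subgroup of `U` containing the elements with fixed points and the `τ₂(M)`-planes. -/
theorem exists_abelian_part : ∃ A₀ : Subgroup G, A₀ ≤ U ∧ IsMulCommutative A₀ ∧
    (∀ u ∈ U, u ∈ Cfsg.sigmaHat M → u ∈ A₀) ∧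
    ∀ (p : ℕ) [Fact p.Prime] (A : Subgroup G), p ∈ Cfsg.tau2 M → A ≤ U → Cfsg.IsElementaryAbelian p A →
      Nat.card A = p ^ 2 → A ≤ A₀ := by
  by_cases hK0 : K = ⊥
  · obtain ⟨hE, hfree⟩ := regular_hyp hG hM hKU hK0
    refine ⟨Cfsg.fittingOf U, fittingOf_le U, Sigma12.nilpotent_comm hG hM
      ((fittingOf_le U).trans hKU.compl.1) (fittingOf_isNilpotent U) (fun r hr hd =>
        (dvd_U_not_sigma hG hM hKU hr (hd.trans (Subgroup.card_dvd_of_le (fittingOf_le U)))).1),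
      fun u hu ⟨_, y, hy, hy1, huy⟩ => ?_, fun p _ A ht hAU hAe hA2 => ?_⟩
    · exact Sigma12.inf_centralizer_le_fittingOf hG hM hE hfree hy hy1
        ⟨hu, Subgroup.mem_centralizer_singleton_iff.mpr huy⟩
    · exact le_fittingOf hAU (Sigma12.compl_le_normalizer hG hM ht hE hAU hAe hA2)
        (isPGroup_of_elemAb hAe).isNilpotent
  · exact ⟨U, le_rfl, hab hK0, fun u hu _ => hu, fun _ _ A _ hAU _ _ => hAU⟩

include hG hM hKU hab in
/-- **Theorem B**: the elements of `U` with fixed points generate an abelian group. -/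
theorem closure_hat_comm : IsMulCommutative (Subgroup.closure ((U : Set G) ∩ Cfsg.sigmaHat M)) := by
  obtain ⟨A₀, -, hc, hhat, -⟩ := exists_abelian_part hG hM hKU hab
  have hle : Subgroup.closure ((U : Set G) ∩ Cfsg.sigmaHat M) ≤ A₀ :=
    (Subgroup.closure_le _).mpr fun u hu => hhat u hu.1 hu.2
  exact ⟨⟨fun a b => Subtype.ext (mul_comm_of_mem hc (hle a.2) (hle b.2))⟩⟩

include hG hM hKU in
/-- A fixed point free subgroup of an abelian `U` with the same exponent. -/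
theorem exists_free_abelian (hU : IsMulCommutative U) : ∃ U₀ : Subgroup G, U₀ ≤ U ∧
    Monoid.exponent U₀ = Monoid.exponent U ∧ ∀ u ∈ U₀, u ∈ Cfsg.sigmaHat M → u = 1 := by
  classical
  have hE := isComplIn_sup hG hM hKU
  have hgen : ∀ q : {q : ℕ // q ∈ Cfsg.tau2 M}, ∃ (y : G) (k m : ℕ), y ∈ U ∧ Nat.card U = q.1 ^ k * m ∧
      ¬ q.1 ∣ m ∧ (∀ z ∈ U, IsPGroup q.1 (Subgroup.zpowers z) → orderOf z ∣ orderOf y) ∧
      IsPGroup q.1 (Subgroup.zpowers y) ∧
      ∀ z ∈ Subgroup.zpowers y, z ≠ 1 → Cfsg.sigmaCore M ⊓ Subgroup.centralizer ({z} : Set G) = ⊥ := by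
    rintro ⟨q, hq⟩
    have := Fact.mk hq.1
    obtain ⟨k, m, hm, hk⟩ := Nat.exists_eq_pow_mul_and_not_dvd (Nat.card_pos (α := U)).ne' q hq.1.ne_one
    obtain ⟨P, hP, -⟩ := exists_sylowOf_ge (p := q) (bot_le : (⊥ : Subgroup G) ≤ U) IsPGroup.of_bot
    have hPE : SylowOf q P (U ⊔ K) :=
      (sylowOf_U hG hM hKU hP hq.2.1 (not_kappa_of_tau2 hq)).mono hE.1 (hP.1.trans le_sup_left)
    obtain ⟨y, hy, hmax, -, hbad⟩ := Sigma12.exists_free_generator hG hM hq hE hPE (H := ⊥) bot_le bot_le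
      (fun r hr hd => absurd (Subgroup.card_bot (G := G) ▸ hd) hr.not_dvd_one)
      fun h hh h1 => absurd (Subgroup.mem_bot.mp hh) h1
    refine ⟨y, k, m, hP.1 hy, hk, hm, fun z hz hzq => hmax z ?_,
      hP.2.1.to_le (Subgroup.zpowers_le.mpr hy), hbad⟩
    have hn : Subgroup.zpowers z ≤ Subgroup.normalizer (P : Set G) := fun w hw =>
      Subgroup.centralizer_le_normalizer _ (Subgroup.mem_centralizer_iff.mpr fun v hv =>
        mul_comm_of_mem hU (hP.1 hv) ((Subgroup.zpowers_le.mpr hz) hw))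
    exact (le_sup_right.trans (hP.2.2 _ (sup_le hP.1 (Subgroup.zpowers_le.mpr hz))
      (hP.2.1.to_sup_of_normal_left' hzq hn) le_sup_left).le) (Subgroup.mem_zpowers z)
  choose y k m hyU hk hm hmax hyp hbad using hgen
  let U₀ : Subgroup G :=
    { carrier := {u | u ∈ U ∧ ∀ q, u ^ m q ∈ Subgroup.zpowers (y q)}
      one_mem' := ⟨U.one_mem, fun q => by rw [one_pow]; exact Subgroup.one_mem _⟩
      mul_mem' := fun {a b} ha hb => ⟨mul_mem ha.1 hb.1, fun q => by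
        rw [(show Commute a b from mul_comm_of_mem hU ha.1 hb.1).mul_pow]
        exact mul_mem (ha.2 q) (hb.2 q)⟩
      inv_mem' := fun {a} ha => ⟨inv_mem ha.1, fun q => by rw [inv_pow]; exact inv_mem (ha.2 q)⟩ }
  have hU₀ : U₀ ≤ U := fun u hu => hu.1
  have hkill : ∀ {r : ℕ} (q : {q : ℕ // q ∈ Cfsg.tau2 M}), r.Prime → r ≠ q.1 → ∀ {z : G}, z ∈ U →
      (∃ j, orderOf z = r ^ j) → z ^ m q = 1 := by
    intro r q hr hrq z hz ⟨j, hj⟩
    refine orderOf_dvd_iff_pow_eq_one.mp (Nat.Coprime.dvd_of_dvd_mul_left ?_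
      (hk q ▸ Subgroup.orderOf_dvd_natCard U hz))
    rw [hj]
    exact ((Nat.coprime_primes hr q.2.1).mpr hrq).pow j _
  refine ⟨U₀, hU₀, Nat.dvd_antisymm (Monoid.exponent_dvd_of_monoidHom (Subgroup.inclusion hU₀)
    (Subgroup.inclusion_injective hU₀)) (Monoid.exponent_dvd.mpr fun e => ?_), fun u hu hhat => ?_⟩
  · rw [← Subgroup.orderOf_coe, Nat.dvd_iff_prime_pow_dvd_dvd]
    intro r j hr hd
    have := Fact.mk hr
    set z := (e : G) ^ (orderOf (e : G) / r ^ j)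
    have hz : z ∈ U := pow_mem e.2 _
    have hzo : orderOf z = r ^ j := orderOf_pow_orderOf_div (orderOf_pos _).ne' hd
    have key : ∀ {w : G}, w ∈ U₀ → r ^ j ∣ orderOf w → r ^ j ∣ Monoid.exponent U₀ := fun hw h =>
      h.trans ((Subgroup.orderOf_coe (⟨_, hw⟩ : U₀)).symm ▸ Monoid.order_dvd_exponent (⟨_, hw⟩ : U₀))
    by_cases hrt : r ∈ Cfsg.tau2 M
    · refine key (w := y ⟨r, hrt⟩) ⟨hyU _, fun q => ?_⟩ (hzo ▸ hmax ⟨r, hrt⟩ z hz
        (IsPGroup.of_card (by rw [Nat.card_zpowers, hzo])))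
      by_cases hq : q = ⟨r, hrt⟩
      · subst hq; exact Subgroup.pow_mem _ (Subgroup.mem_zpowers _) _
      · obtain ⟨i, hi⟩ := (hyp ⟨r, hrt⟩).exists_card_eq
        rw [Nat.card_zpowers] at hi
        rw [hkill q hr (fun h => hq (Subtype.ext h.symm)) (hyU _) ⟨i, hi⟩]
        exact Subgroup.one_mem _
    · refine key (w := z) ⟨hz, fun q => ?_⟩ hzo.symm.dvd
      rw [hkill q hr (fun h => hrt (h ▸ q.2)) hz ⟨j, hzo⟩]
      exact Subgroup.one_mem _
  · by_contra hu1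
    obtain ⟨r, hr, hd⟩ := Nat.exists_prime_and_dvd (n := orderOf u) fun h => hu1 (orderOf_eq_one_iff.mp h)
    have hrt := mem_tau2_of_mem_hat hG hM hKU (hU₀ hu) hhat hr hd
    obtain ⟨-, s, hs, hs1, hus⟩ := hhat
    obtain ⟨z, hz, hzo⟩ := OddOrder38.exists_mem_zpowers_prime hr hd
    have hzs : z * s = s * z := (Subgroup.mem_centralizer_singleton_iff.mp
      (OddOrder38.centralizer_le_of_mem_zpowers hz (Subgroup.mem_centralizer_singleton_iff.mpr hus.symm))).symm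
    obtain ⟨-, hzm⟩ := (Subgroup.zpowers_le.mpr hu : Subgroup.zpowers u ≤ U₀) hz
    obtain ⟨i, hi⟩ := exists_pow_eq_self_of_coprime (x := z) (n := m ⟨r, hrt⟩) (by
      rw [hzo]
      exact (hr.coprime_iff_not_dvd.mpr (hm ⟨r, hrt⟩)).symm)
    have hzy : z ∈ Subgroup.zpowers (y ⟨r, hrt⟩) := hi ▸ Subgroup.pow_mem _ (hzm ⟨r, hrt⟩) i
    refine hs1 (Sigma12.eq_one_of_sigma_fixed (hbad _ z hzy fun h => ?_) hs hzs)
    exact hr.ne_one (by rw [← hzo, h, orderOf_one])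

include hG hM hKU hab in
/-- **Theorem B**: a fixed point free subgroup of the same exponent. -/
theorem exists_free_part : ∃ U₀ : Subgroup G, U₀ ≤ U ∧ Monoid.exponent U₀ = Monoid.exponent U ∧
    ∀ u ∈ U₀, u ∈ Cfsg.sigmaHat M → u = 1 := by
  by_cases hK0 : K = ⊥
  · obtain ⟨hE, hfree⟩ := regular_hyp hG hM hKU hK0
    obtain ⟨U₀, hle, hexp, hfpf⟩ := Sigma12.exists_free_subgroup hG hM hE hfree
    refine ⟨U₀, hle, hexp, fun u hu ⟨_, s, hs, hs1, hus⟩ => ?_⟩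
    by_contra hu1
    exact hs1 (Sigma12.eq_one_of_sigma_fixed (hfpf u hu hu1) hs hus)
  · exact exists_free_abelian hG hM hKU (hab hK0)

include hG hM hKU hab in
/-- **Theorem B**: `M` is the only maximal subgroup over `C_G(X)`. -/
theorem only_over_centralizer {X : Subgroup G} (hXU : X ≤ U) (hX : X ≠ ⊥)
    (hXc : Cfsg.sigmaCore M ⊓ Subgroup.centralizer (X : Set G) ≠ ⊥) :
    Subgroup.centralizer (X : Set G) ≤ M ∧
      ∀ L : Subgroup G, IsCoatom L → Subgroup.centralizer (X : Set G) ≤ L → L = M := by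
  obtain ⟨s, hs, hs1⟩ := (Subgroup.bot_or_exists_ne_one _).resolve_left hXc
  obtain ⟨hsS, hsX⟩ := Subgroup.mem_inf.mp hs
  have hhat : ∀ v ∈ X, v ∈ Cfsg.sigmaHat M := fun v hv =>
    ⟨hKU.compl.1 (hXU hv), s, hsS, hs1, Subgroup.mem_centralizer_iff.mp hsX v hv⟩
  obtain ⟨x, hx, hx1⟩ := (Subgroup.bot_or_exists_ne_one X).resolve_left hX
  obtain ⟨r, hr, hd⟩ := Nat.exists_prime_and_dvd (n := orderOf x) fun h => hx1 (orderOf_eq_one_iff.mp h)
  have := Fact.mk hr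
  have hrt := mem_tau2_of_mem_hat hG hM hKU (hXU hx) (hhat x hx) hr hd
  obtain ⟨P, hP, -⟩ := exists_sylowOf_ge (p := r) (bot_le : (⊥ : Subgroup G) ≤ U) IsPGroup.of_bot
  have hPM := sylowOf_U hG hM hKU hP hrt.2.1 (not_kappa_of_tau2 hrt)
  obtain ⟨A, hAP, hAe, hA2⟩ := Sigma12.exists_plane hrt.2.2.2 hPM
  obtain ⟨A₀, -, hc, hin, hplane⟩ := exists_abelian_part hG hM hKU hab
  have hAX : A ≤ Subgroup.centralizer (X : Set G) := fun a ha => Subgroup.mem_centralizer_iff.mpr fun v hv =>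
    mul_comm_of_mem hc (hin v (hXU hv) (hhat v hv)) (hplane r A hrt (hAP.trans hP.1) hAe hA2 ha)
  have hxonly := Sigma12.onlyIn_of_sigmaHat hG hM (isComplIn_sup hG hM hKU) (hKU.compl.1 (hXU hx)) hx1
    (fun q hq hqd => mem_tau2_of_mem_hat hG hM hKU (hXU hx) (hhat x hx) hq hqd) (hhat x hx)
  refine ⟨(Subgroup.centralizer_le (Set.singleton_subset_iff.mpr hx)).trans hxonly.1, fun L hL hle => ?_⟩
  by_contra hne
  have h0 := Sigma12.sigmaCore_inf_eq_bot hG hM hrt (hAP.trans hPM.1) hAe hA2 hL hne (hAX.trans hle)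
  exact hs1 (Subgroup.mem_bot.mp (h0.le ⟨hsS, hle hsX⟩))

omit hab in
include hG hM hKU in
/-- **Theorem B**: `A(M) - M_σ` is a TI-subset. -/
theorem sigmaA_diff_TI : Cfsg.IsTISubset (Cfsg.sigmaA M U \ (Cfsg.sigmaCore M : Set G)) := by
  set S := Cfsg.sigmaCore M with hS
  have hSn : M ≤ Subgroup.normalizer (S : Set G) := piCoreOf_normal _ _
  have hNn : M ≤ Subgroup.normalizer ((U ⊔ S : Subgroup G) : Set G) := fun g hg => by
    refine mem_normalizer_of_cj_eq (Subgroup.eq_of_le_of_card_ge ?_ (card_cj g _).ge)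
    rintro _ ⟨w, hw, rfl⟩
    have hwM : w ∈ M := sup_le hKU.compl.1 (piCoreOf_le _ _) hw
    have h : g * w * g⁻¹ * w⁻¹ ∈ U ⊔ S :=
      OddOrder38.decomp_derived_le hM hKU (Subgroup.commutator_mem_commutator hg hwM)
    change g * w * g⁻¹ ∈ U ⊔ S
    rw [show g * w * g⁻¹ = g * w * g⁻¹ * w⁻¹ * w by group]
    exact mul_mem h hw
  have hconj : ∀ g ∈ M, ∀ a ∈ Cfsg.sigmaA M U \ (S : Set G), g * a * g⁻¹ ∈ Cfsg.sigmaA M U \ (S : Set G) := by
    rintro g hg a ⟨⟨⟨haM, y, hy, hy1, hay⟩, haN⟩, haS⟩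
    refine ⟨⟨⟨mul_mem (mul_mem hg haM) (inv_mem hg), g * y * g⁻¹,
      (Subgroup.mem_normalizer_iff.mp (hSn hg) y).mp hy, fun h => hy1 (by simpa using h), ?_⟩,
      (Subgroup.mem_normalizer_iff.mp (hNn hg) a).mp haN⟩, fun h => haS ((Subgroup.mem_normalizer_iff.mp (hSn hg) a).mpr h)⟩
    calc g * a * g⁻¹ * (g * y * g⁻¹) = g * (a * y) * g⁻¹ := by group
      _ = g * (y * a) * g⁻¹ := by rw [hay]
      _ = g * y * g⁻¹ * (g * a * g⁻¹) := by group
  intro g hg x hx hgx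
  exfalso
  refine hg ?_
  obtain ⟨⟨⟨hxM, y, hy, hy1, hxy⟩, hxN⟩, hxS⟩ := hx
  obtain ⟨r, hr, hd, hrσ⟩ : ∃ r, r.Prime ∧ r ∣ orderOf x ∧ r ∉ Cfsg.sigma M := by
    by_contra h
    push Not at h
    refine hxS (OddOrder38.le_sigmaCore hG hM (Subgroup.zpowers_le.mpr hxM) ?_ (Subgroup.mem_zpowers x))
    intro q hq hqd
    exact h q hq (by rwa [Nat.card_zpowers] at hqd)
  have hrU : r ∣ Nat.card U := (hr.dvd_mul.mp ((hd.trans (Subgroup.orderOf_dvd_natCard _ hxN)).trans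
    (Coprime.card_sup_dvd (hKU.compl.1.trans hSn)))).resolve_right
      fun h => hrσ (piNat_card_piCoreOf (Cfsg.sigma M) M r hr h)
  have := Fact.mk hr
  have hrt := tau2_of_fixed hG hM hxM ⟨hxM, y, hy, hy1, hxy⟩ hr hd hrσ (dvd_U_not_sigma hG hM hKU hr hrU).2
  set n := orderOf x / r with hn
  have hzo : orderOf (x ^ n) = r := orderOf_pow_orderOf_div (orderOf_pos x).ne' hd
  have hon : ∀ {w : G}, w ∈ M → orderOf w = r → w ∈ Cfsg.sigmaHat M →
      OnlyIn M (Subgroup.centralizer ({w} : Set G)) := fun hwM hwo hwh =>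
    Sigma12.onlyIn_of_sigmaHat hG hM (isComplIn_sup hG hM hKU) hwM
      (fun h => hr.ne_one (by rw [← hwo, h, orderOf_one]))
      (fun q hq hqd => (Nat.prime_dvd_prime_iff_eq hq hr).mp (hwo ▸ hqd) ▸ hrt) hwh
  obtain ⟨⟨⟨hgxM, y', hy', hy'1, hgxy⟩, -⟩, -⟩ := hgx
  have h1 := hon (pow_mem hxM n) hzo ⟨pow_mem hxM n, y, hy, hy1, (Commute.pow_left hxy n).eq⟩
  have h2 := hon (w := (g * x * g⁻¹) ^ n) (pow_mem hgxM n) (by
    rw [conj_pow, ← hzo]; exact orderOf_injective (MulAut.conj g).toMonoidHom (MulAut.conj g).injective _)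
    ⟨pow_mem hgxM n, y', hy', hy'1, (Commute.pow_left hgxy n).eq⟩
  rw [conj_pow] at h2
  have hgM : g ∈ M := by
    refine OddOrder38.mem_of_cj_eq hG hM (h2.2 _ (isCoatom_map_conj hM g) ?_)
    exact (cj_centralizer_singleton g _).ge.trans (cj_mono h1.1)
  intro a
  refine ⟨hconj g hgM a, fun h => ?_⟩
  have := hconj g⁻¹ (inv_mem hgM) _ h
  simpa [mul_assoc] using this

omit hab in
include hG hM hKU in
/-- **Theorem B**: the Sylow subgroups of `U` are abelian of rank at most two. -/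
theorem sylow_U_structure (p : ℕ) (hp : p.Prime) (P : Sylow p U) :
    IsMulCommutative (P : Subgroup U) ∧ Cfsg.PRankLE p 2 (P : Subgroup U) := by
  have := Fact.mk hp
  by_cases hd : p ∣ Nat.card U
  swap
  · have hP : (P : Subgroup U) = ⊥ := by
      by_contra h
      exact hd ((Uniq.prime_dvd_card P.isPGroup' h).trans (Subgroup.card_subgroup_dvd_card _))
    refine ⟨⟨⟨fun a b => ?_⟩⟩, pRankLE_of_not_dvd 2 (by rw [hP, Subgroup.card_bot]; exact hp.not_dvd_one)⟩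
    have h1 : (a : U) = 1 := Subgroup.mem_bot.mp (hP.le a.2)
    have h2 : (b : U) = 1 := Subgroup.mem_bot.mp (hP.le b.2)
    exact Subtype.ext (by simp [h1, h2])
  have hσ := (dvd_U_not_sigma hG hM hKU hp hd).1
  have hc := Sigma12.pgroup_comm_of_not_mem_sigma hG hM hσ (Q := (P : Subgroup U).map U.subtype)
    ((Subgroup.map_subtype_le _).trans hKU.compl.1) (P.isPGroup'.map _)
  refine ⟨⟨⟨fun a b => Subtype.ext (U.subtype_injective ?_)⟩⟩, ?_⟩
  · simpa using mul_comm_of_mem hc ⟨a, a.2, rfl⟩ ⟨b, b.2, rfl⟩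
  · exact PRankLE.of_injective ((Subgroup.inclusion hKU.compl.1).comp (P : Subgroup U).subtype)
      ((Subgroup.inclusion_injective hKU.compl.1).comp (P : Subgroup U).subtype_injective)
      (OddOrder38.pRankLE_two_of_not_sigma hG hM hp hσ)

end CfsgLib.OddOrder40
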