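import Mathlib
import Cfsg.Agent.Lib.OddOrder40.Pair14
import Cfsg.Agent.Lib.OddOrder41.Sigma12Inter

/-!
# BG 14.7: `M` is the only maximal subgroup over the centralizer of an element of `K*`
-/

set_option autoImplicit false

namespace CfsgLib.OddOrder40

open Subgroup CfsgLib.OddOrder CfsgLib.OddOrder.Transitivity CfsgLib.OddOrder38 CfsgLib.OddOrder41

universe u

variable {G : Type u} [Group G] [Finite G]

/-- The elements of order dividing `p` of the centre of a nilpotent `S`. -/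
theorem exists_central_layer {S : Subgroup G} (hnil : Group.IsNilpotent S) {p : ℕ} [hp : Fact p.Prime]
    (hd : p ∣ Nat.card S) :
    ∃ V : Subgroup G, V ≤ S ∧ V ≤ Subgroup.centralizer (S : Set G) ∧ Cfsg.IsElementaryAbelian p V ∧
      V ≠ ⊥ ∧ Subgroup.normalizer (S : Set G) ≤ Subgroup.normalizer (V : Set G) := by
  let V : Subgroup G :=
    { carrier := {v | v ∈ S ∧ v ∈ Subgroup.centralizer (S : Set G) ∧ v ^ p = 1}
      one_mem' := ⟨one_mem _, one_mem _, one_pow _⟩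
      mul_mem' := fun {u v} hu hv => ⟨mul_mem hu.1 hv.1, mul_mem hu.2.1 hv.2.1, by
        rw [(show Commute u v from (Subgroup.mem_centralizer_iff.mp hu.2.1 v hv.1).symm).mul_pow,
          hu.2.2, hv.2.2, one_mul]⟩
      inv_mem' := fun {u} hu => ⟨inv_mem hu.1, inv_mem hu.2.1, by rw [inv_pow, hu.2.2, inv_one]⟩ }
  refine ⟨V, fun v hv => hv.1, fun v hv => hv.2.1,
    ⟨⟨⟨fun a b => Subtype.ext (Subgroup.mem_centralizer_iff.mp b.2.2.1 a a.2.1)⟩⟩, fun v hv => hv.2.2⟩, ?_,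
    fun m hm => CfsgLib.Coprime.mem_normalizer_of_forall_conj fun w hw => ⟨?_, ?_, ?_⟩⟩
  · have := hnil
    obtain ⟨T⟩ : Nonempty (Sylow p S) := inferInstance
    have hTn : (T : Subgroup S).Normal := inferInstance
    have hT1 : (T : Subgroup S) ≠ ⊥ := T.ne_bot_of_dvd_card hd
    obtain ⟨z, hz⟩ := exists_prime_orderOf_dvd_card' (G := ↥((T : Subgroup S) ⊓ Subgroup.center S)) p
      (Uniq.prime_dvd_card (T.isPGroup'.to_le inf_le_left)
        (by rw [inf_comm]; exact PuigSeries.inf_center_ne_bot (T : Subgroup S) hT1))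
    intro hV
    have h1 : ((z : S) : G) ∈ V := by
      refine ⟨(z : S).2, Subgroup.mem_centralizer_iff.mpr fun s hs => ?_, ?_⟩
      · exact congrArg Subtype.val (Subgroup.mem_center_iff.mp (Subgroup.mem_inf.mp z.2).2 ⟨s, hs⟩)
      · rw [← Subgroup.coe_pow, ← Subgroup.coe_pow, show z ^ p = 1 from orderOf_dvd_iff_pow_eq_one.mp hz.dvd]
        rfl
    rw [hV, Subgroup.mem_bot] at h1
    exact hp.out.ne_one (by rw [← hz, ← Subgroup.orderOf_coe, ← Subgroup.orderOf_coe, h1, orderOf_one])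
  · exact (Subgroup.mem_normalizer_iff.mp hm w).mp hw.1
  · rw [Subgroup.mem_centralizer_iff]
    intro s hs
    have h2 := Subgroup.mem_centralizer_iff.mp hw.2.1 _ ((Subgroup.mem_normalizer_iff''.mp hm s).mp hs)
    calc s * (m * w * m⁻¹) = m * ((m⁻¹ * s * m) * w) * m⁻¹ := by group
      _ = m * (w * (m⁻¹ * s * m)) * m⁻¹ := by rw [h2]
      _ = m * w * m⁻¹ * s := by group
  · rw [conj_pow, hw.2.2, mul_one, mul_inv_cancel]

variable (hG : Cfsg.IsMinSimpleOddOrder G) (hI : Inputs G)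

include hG hI in
/-- For `M` not of type `P₁` every prime of `M_σ` has a large central layer. -/
theorem inUnique_layer {M K : Subgroup G} (hM : IsCoatom M) (hK : Cfsg.IsPiHallOf (Cfsg.kappa M) K M)
    (hK1 : K ≠ ⊥) (hP : NotTypeOne M) {p : ℕ} [hp : Fact p.Prime]
    (hd : p ∣ Nat.card ↥(Cfsg.sigmaCore M)) :
    ∃ V : Subgroup G, V ≤ Cfsg.sigmaCore M ∧ V ≤ Subgroup.centralizer (Cfsg.sigmaCore M : Set G) ∧
      Cfsg.InUniqueMaximal V ∧ ¬ Cfsg.PRankLE p 2 V := by
  obtain ⟨t, ht, htM, htσ, htκ⟩ := hP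
  have := Fact.mk ht
  obtain ⟨P, hPM, hPc, hKP, hPC, hnil⟩ := exists_fpf_subgroup hG hI hM hK hK1 htM htσ htκ
  obtain ⟨V, hVS, hVC, hVe, hV1, hVn⟩ := exists_central_layer hnil hd
  suffices hr3 : ¬ Cfsg.PRankLE p 2 V from ⟨V, hVS, hVC, Sigma10.inUnique_of_rank_three hG (p := p) hr3
    (minSimple_pgroup_ne_top hG (isPGroup_of_elemAb hVe)), hr3⟩
  intro hr
  obtain ⟨q, hq, hqd⟩ := Nat.exists_prime_and_dvd (n := Nat.card K) fun e => hK1 (Subgroup.card_eq_one.mp e)
  have := Fact.mk hq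
  obtain ⟨y', hy'⟩ := exists_prime_orderOf_dvd_card' (G := K) q hqd
  set Y := Subgroup.zpowers (y' : G) with hY
  have hYK : Y ≤ K := Subgroup.zpowers_le.mpr y'.2
  have hYc : Nat.card Y = q := by rw [hY, Nat.card_zpowers, Subgroup.orderOf_coe, hy']
  have hYP : Y ≤ Subgroup.normalizer (P : Set G) := hYK.trans hKP
  have hfpf : ∀ e ∈ Y, e ≠ 1 → ∀ u ∈ P, e * u = u * e → u = 1 := by
    intro e he he1 u hu heu
    by_contra hu1
    obtain ⟨r, hr, hrd⟩ := Nat.exists_prime_and_dvd (n := orderOf u)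
      fun h => hu1 (orderOf_eq_one_iff.mp h)
    have hrt := hPc r hr (hrd.trans (Subgroup.orderOf_dvd_natCard _ hu))
    rcases mem_kappa_union_sigma_of_commute hG hI hM hK (hYK he) he1 (hPM hu) heu hr hrd with h | h
    · exact htκ (hrt ▸ h)
    · exact htσ (hrt ▸ h)
  have hqκ := hK.2.1 q hq hqd
  have hcop : (Nat.card V).Coprime (Nat.card ↥(P ⊔ Y)) := by
    refine Nat.coprime_of_dvd fun r hr h1 h2 => ?_
    have hrσ : r ∈ Cfsg.sigma M :=
      piNat_card_piCoreOf (Cfsg.sigma M) M r hr (h1.trans (Subgroup.card_dvd_of_le hVS))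
    rw [sup_comm] at h2
    rcases hr.dvd_mul.mp (h2.trans (card_sup_dvd_mul hYP)) with h | h
    · rw [hYc, Nat.prime_dvd_prime_iff_eq hr hq] at h
      exact hqκ.2.2.1 (h ▸ hrσ)
    · exact htσ (hPc r hr h ▸ hrσ)
  have hVs : Group.IsSolvable V := by
    have := hVe.1
    exact Group.isSolvable_of_comm fun a b => this.is_comm.comm a b
  have hf := FixedFormula.fixed_formula P Y (fun h => hq.ne_one (by rw [← hYc, h, Subgroup.card_bot])) hYP
    (FixedFormula.coprime_of_fpf hYP hfpf) hfpf V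
    ((sup_le hPM (hYK.trans hK.1)).trans ((piCoreOf_normal _ _).trans hVn)) hVs hcop
  have hVP : V ⊓ Subgroup.centralizer (P : Set G) = ⊥ := le_bot_iff.mp (hPC ▸ inf_le_inf hVS le_rfl)
  have hVPY : V ⊓ Subgroup.centralizer ((P ⊔ Y : Subgroup G) : Set G) = ⊥ :=
    le_bot_iff.mp (hVP ▸ inf_le_inf le_rfl (Subgroup.centralizer_le fun _ hz => Subgroup.mem_sup_left hz))
  rw [hVP, hVPY, Subgroup.card_bot, one_pow, one_mul, mul_one, hYc] at hf
  obtain ⟨n, hn⟩ := (isPGroup_of_elemAb hVe).exists_card_eq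
  have hn2 : n ≤ 2 := by
    refine (Nat.pow_le_pow_iff_right hp.out.one_lt).mp ?_
    rw [← hn]
    have h := pRankLE_iff.mp hr (V.subgroupOf V) (elemAb_comap hVe V.subtype V.subtype_injective)
    rwa [Nat.card_congr (Subgroup.subgroupOfEquivOfLe le_rfl).toEquiv] at h
  obtain ⟨m, -, hm⟩ := (Nat.dvd_prime_pow hp.out).mp
    (hn ▸ Subgroup.card_dvd_of_le (inf_le_left : V ⊓ Subgroup.centralizer (Y : Set G) ≤ V))
  rw [hm, ← pow_mul, hn] at hf
  have hnm : n = m * q := Nat.pow_right_injective hp.out.two_le hf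
  have hq3 : 3 ≤ q := by
    have h2 := minSimple_prime_ne_two' hG (hqκ.2.1.trans (Subgroup.card_subgroup_dvd_card M))
    have := hq.two_le
    omega
  have hn0 : n = 0 := by
    rcases Nat.eq_zero_or_pos m with h | h
    · rw [hnm, h, zero_mul]
    · have : 1 * 3 ≤ m * q := Nat.mul_le_mul h hq3
      omega
  exact hV1 (Subgroup.card_eq_one.mp (by rw [hn, hn0, pow_zero]))

include hG hI in
/-- For `M` not of type `P₁`, `M` is the only maximal subgroup over `C_G(x)`, `x ∈ M_σ`. -/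
theorem centralizer_onlyIn_of_not_type_one {M K : Subgroup G} (hM : IsCoatom M)
    (hK : Cfsg.IsPiHallOf (Cfsg.kappa M) K M) (hK1 : K ≠ ⊥) (hP : NotTypeOne M) {x : G}
    (hx : x ∈ Cfsg.sigmaCore M) (hx1 : x ≠ 1) :
    OddOrder41.OnlyIn (Subgroup.centralizer ({x} : Set G)) M := by
  obtain ⟨p, hp, hd⟩ := Nat.exists_prime_and_dvd (n := orderOf x) fun e => hx1 (orderOf_eq_one_iff.mp e)
  have := Fact.mk hp
  obtain ⟨V, hVS, hVC, hVu, -⟩ :=
    inUnique_layer hG hI hM hK hK1 hP (hd.trans (Subgroup.orderOf_dvd_natCard _ hx))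
  rw [← OddOrder41.centralizer_zpowers]
  refine inUnique_centralizer_of_rank_three hG hVu hM (hVS.trans (sigmaCore_le M)) ?_
    (Subgroup.zpowers_ne_bot.mpr hx1)
  exact hVC.trans (Subgroup.centralizer_le (Subgroup.zpowers_le.mpr hx))

include hG hI in
/-- **BG 14.7**: `M` is the only maximal subgroup over `C_G(y)`, `y ∈ K*` of prime order. -/
theorem kstar_onlyIn {M K : Subgroup G} (hM : IsCoatom M) (hK : Cfsg.IsPiHallOf (Cfsg.kappa M) K M)
    (hK1 : K ≠ ⊥) {y : G} (hy : y ∈ Cfsg.sigmaCore M ⊓ Subgroup.centralizer (K : Set G))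
    {p : ℕ} (hp : p.Prime) (hyo : orderOf y = p) : OddOrder41.OnlyIn (Subgroup.centralizer ({y} : Set G)) M := by
  by_cases hP : NotTypeOne M
  · exact centralizer_onlyIn_of_not_type_one hG hI hM hK hK1 hP (Subgroup.mem_inf.mp hy).1
      fun e => hp.ne_one (by rw [← hyo, e, orderOf_one])
  have := Fact.mk hp
  set S := Cfsg.sigmaCore M with hS
  have hKn : K ≤ Subgroup.normalizer (S : Set G) := hK.1.trans (piCoreOf_normal _ _)
  have hinf : S ⊓ K = ⊥ := (Subgroup.eq_bot_iff_forall _).mpr fun z hz => by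
    by_contra hz1
    obtain ⟨r, hr, hrd⟩ := Nat.exists_prime_and_dvd (n := orderOf z) fun e => hz1 (orderOf_eq_one_iff.mp e)
    exact (kappa_elem_primes hK (Subgroup.mem_inf.mp hz).2 hr hrd).2.2.1
      (mem_sigma_of_mem_sigmaCore (Subgroup.mem_inf.mp hz).1 hr hrd)
  have htop : K ⊔ S = M := Subgroup.eq_of_le_of_card_ge (sup_le hK.1 (sigmaCore_le M)) (le_of_eq (by
    rw [CfsgLib.Coprime.card_sup_of_disjoint hKn hinf, card_eq_of_type_one hG hM hK (not_notTypeOne hP)]))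
  have hE : Cfsg.IsComplIn K S M := ⟨hK.1, sigmaCore_le M, by rwa [inf_comm], fun m hm => by
    obtain ⟨a, ha, b, hb, he⟩ := CfsgLib.Coprime.exists_mul_of_mem_sup hKn (htop.ge hm)
    exact ⟨a, ha, b, hb, he⟩⟩
  obtain ⟨P⟩ : Nonempty (Sylow p ↥S) := inferInstance
  have h := (centralizer_unique hG hI.rankTwo hI.nilpotent hM (kst_sigma hy hp (by rw [hyo]))
    (X := Subgroup.zpowers y) (Subgroup.zpowers_le.mpr (kst_le M K hy)) (by rw [Nat.card_zpowers, hyo])
    (sylowOf_map P) (Or.inr (Subgroup.zpowers_le.mpr (sigmaCore_inf_centralizer_le hG hM hE hy)))).1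
  rwa [OddOrder41.centralizer_zpowers] at h

end CfsgLib.OddOrder40
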