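import Mathlib
import Cfsg.Agent.Lib.OddOrder40.TheoremB
import Cfsg.Agent.Lib.OddOrder41.Sigma14Inputs

/-!
# The factor `U` is abelian when `κ(M) ≠ ∅`
-/

set_option autoImplicit false

namespace CfsgLib.OddOrder40

open Subgroup CfsgLib.OddOrder CfsgLib.OddOrder.Transitivity CfsgLib.OddOrder38 CfsgLib.OddOrder41

universe u

variable {G : Type u} [Group G] [Finite G]

theorem u_comm (hG : Cfsg.IsMinSimpleOddOrder G) (hI : Inputs G) {M K U : Subgroup G} (hM : IsCoatom M)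
    (hKU : Cfsg.IsSigmaDecomposition M K U) (hK1 : K ≠ ⊥) : IsMulCommutative U := by
  have hU := decomp_U_hall hG hM hKU
  obtain ⟨U₀, E₀, -, -, hU₀c, -, -, hU₀, -⟩ := exists_compl_kappa hG hI hM hKU.hall hK1
  have := minSimple_solvable hG hM.1
  obtain ⟨g, -, hle⟩ := OddOrder41.exists_conj_into hU₀.1 (fun s hs hsπ => hU₀.2.2 s hs hsπ) hU.1 hU.2.1
  refine ⟨⟨fun x y => Subtype.ext ?_⟩⟩
  have h1 := mul_comm_of_mem hU₀c (hle (mem_cj_self.mpr x.2)) (hle (mem_cj_self.mpr y.2))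
  show (x : G) * y = y * x
  exact mul_right_cancel (b := g⁻¹) (by simpa [mul_assoc] using h1)

end CfsgLib.OddOrder40
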