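import Mathlib
import Cfsg.Agent.Lib.OddOrder40.PairUnique
import Cfsg.Agent.Lib.OddOrder40.UComm
import Cfsg.Agent.Lib.OddOrder38.Main1435
import Cfsg.Agent.Lib.OddOrder38.Main1437

/-!
# BG Theorem C: the pair `M`, `M*`
-/

set_option autoImplicit false

namespace CfsgLib.OddOrder40

open Subgroup CfsgLib.OddOrder CfsgLib.OddOrder.Transitivity CfsgLib.OddOrder38 CfsgLib.OddOrder41
open scoped commutatorElement

universe u

variable {G : Type u} [Group G] [Finite G] (hG : Cfsg.IsMinSimpleOddOrder G) (hI : Inputs G)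
  {M K U : Subgroup G} (hM : IsCoatom M) (hKU : Cfsg.IsSigmaDecomposition M K U) (hK1 : K ≠ ⊥)

include hG hM hKU in
theorem notTypeOne_iff : U ≠ ⊥ ↔ NotTypeOne M := by
  have hU := decomp_U_hall hG hM hKU
  refine ⟨fun h => ?_, fun ⟨r, hr, hrM, hrσ, hrκ⟩ e => hU.2.2 r hr ⟨hr, hrκ, hrσ⟩ ?_⟩
  · obtain ⟨r, hr, hd⟩ := Nat.exists_prime_and_dvd (n := Nat.card U) fun e => h (Subgroup.card_eq_one.mp e)
    exact ⟨r, hr, hd.trans (Subgroup.card_dvd_of_le hU.1), (hU.2.1 r hr hd).2.2, (hU.2.1 r hr hd).2.1⟩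
  · rwa [e, Subgroup.relIndex_bot_left]

include hG hI hM hKU hK1 in
/-- **Theorem C**: existence and uniqueness of `M*`. -/
theorem existsUnique_partner :
    ∃! Mstar : Subgroup G, IsCoatom Mstar ∧
      K = Cfsg.sigmaCore Mstar ⊓ Subgroup.centralizer ((Cfsg.sigmaCore M ⊓ Subgroup.centralizer (K : Set G) : Subgroup G) : Set G) ∧
      Cfsg.IsPiHallOf (Cfsg.kappa Mstar) (Cfsg.sigmaCore M ⊓ Subgroup.centralizer (K : Set G)) Mstar := by
  obtain ⟨L, hL, h1, h2, -⟩ := exists_pair hG hI hM hKU.hall hK1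
  exact ⟨L, ⟨hL, h1, h2⟩, fun L' h => pair_unique hG hI hM hKU.hall hK1 hL h1 h2 h.1 h.2.1 h.2.2⟩

include hG hI hM hKU hK1 in
/-- **Theorem C**: `U` is abelian and `N_G(U)` is not inside `M`. -/
theorem u_normalizer : IsMulCommutative U ∧ ¬ Subgroup.normalizer (U : Set G) ≤ M := by
  refine ⟨u_comm hG hI hM hKU hK1, fun hle => ?_⟩
  by_cases hU1 : U = ⊥
  · refine hM.1 (top_le_iff.mp (le_trans (fun g _ => ?_) hle))
    exact mem_normalizer_of_cj_eq (by rw [hU1]; exact Subgroup.map_bot _)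
  obtain ⟨L, hL, h1, h2, -⟩ := exists_pair hG hI hM hKU.hall hK1
  obtain ⟨r, hr, hd⟩ := Nat.exists_prime_and_dvd (n := Nat.card U) fun e => hU1 (Subgroup.card_eq_one.mp e)
  have := Fact.mk hr
  obtain ⟨R⟩ : Nonempty (Sylow r U) := inferInstance
  set T := (R : Subgroup U).map U.subtype with hT
  have hT1 : T ≠ ⊥ := fun e => R.ne_bot_of_dvd_card hd
    ((Subgroup.map_eq_bot_iff_of_injective _ U.subtype_injective).mp e)
  obtain ⟨H, hH, hNH⟩ := exists_isCoatom_ge
    (minSimple_normalizer_ne_top hG hT1 (minSimple_pgroup_ne_top hG (R.isPGroup'.map _)))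
  exact (over_normalizer_U hG hI M hM K U hKU hK1 hU1 L hL h1 h2 r hd R H hH hNH).2.2.2.1
    (inf_le_right.trans hle)

include hG hI hM hKU hK1 in
/-- **Theorem C**: `M` alone over `C_G(X)` for `X ≤ K*`, `M*` alone over `C_G(Y)` for `Y ≤ K`. -/
theorem only_over_pair {Mstar : Subgroup G} (hMstar : IsCoatom Mstar)
    (hKst : K = Cfsg.sigmaCore Mstar ⊓ Subgroup.centralizer ((Cfsg.sigmaCore M ⊓ Subgroup.centralizer (K : Set G) : Subgroup G) : Set G))
    (hKstH : Cfsg.IsPiHallOf (Cfsg.kappa Mstar) (Cfsg.sigmaCore M ⊓ Subgroup.centralizer (K : Set G)) Mstar) :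
    (∀ X : Subgroup G, X ≤ (Cfsg.sigmaCore M ⊓ Subgroup.centralizer (K : Set G)) → (Nat.card X).Prime →
        Subgroup.centralizer (X : Set G) ≤ M ∧ ∀ L : Subgroup G, IsCoatom L → Subgroup.centralizer (X : Set G) ≤ L → L = M) ∧
      (∀ Y : Subgroup G, Y ≤ K → (Nat.card Y).Prime →
        Subgroup.centralizer (Y : Set G) ≤ Mstar ∧ ∀ L : Subgroup G, IsCoatom L → Subgroup.centralizer (Y : Set G) ≤ L → L = Mstar) := by
  have key : ∀ {L A X : Subgroup G}, IsCoatom L → Cfsg.IsPiHallOf (Cfsg.kappa L) A L → A ≠ ⊥ →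
      X ≤ Cfsg.sigmaCore L ⊓ Subgroup.centralizer (A : Set G) → (Nat.card X).Prime →
      OddOrder41.OnlyIn (Subgroup.centralizer (X : Set G)) L := by
    intro L A X hL hA hA1 hXC hXp
    have := Fact.mk hXp
    obtain ⟨x, hx⟩ := exists_prime_orderOf_dvd_card' (G := X) (Nat.card X) dvd_rfl
    have hXx : Subgroup.zpowers (x : G) = X := Subgroup.eq_of_le_of_card_ge (Subgroup.zpowers_le.mpr x.2)
      (by rw [Nat.card_zpowers, Subgroup.orderOf_coe, hx])
    rw [← hXx, OddOrder41.centralizer_zpowers]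
    exact kstar_onlyIn hG hI hL hA hA1 (hXC x.2) hXp (by rw [Subgroup.orderOf_coe, hx])
  exact ⟨fun X hX hXp => key hM hKU.hall hK1 hX hXp, fun Y hY hYp =>
    key hMstar hKstH (kstar_ne_bot hI hM hKU.hall hK1) (hY.trans hKst.le) hYp⟩

include hG hI hM hKU hK1 in
/-- **Theorem C**: `M ∩ M* = K K*` is cyclic. -/
theorem inter_partner {Mstar : Subgroup G} (hMstar : IsCoatom Mstar)
    (hKst : K = Cfsg.sigmaCore Mstar ⊓ Subgroup.centralizer ((Cfsg.sigmaCore M ⊓ Subgroup.centralizer (K : Set G) : Subgroup G) : Set G))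
    (hKstH : Cfsg.IsPiHallOf (Cfsg.kappa Mstar) (Cfsg.sigmaCore M ⊓ Subgroup.centralizer (K : Set G)) Mstar) :
    M ⊓ Mstar = K ⊔ (Cfsg.sigmaCore M ⊓ Subgroup.centralizer (K : Set G)) ∧
      IsCyclic ↥(K ⊔ (Cfsg.sigmaCore M ⊓ Subgroup.centralizer (K : Set G))) := by
  have hK := hKU.hall
  set S := Cfsg.sigmaCore M with hS
  set C := S ⊓ Subgroup.centralizer (K : Set G) with hC
  have hKs : K ≤ Cfsg.sigmaCore Mstar := hKst.le.trans inf_le_left
  have hC1 : C ≠ ⊥ := kstar_ne_bot hI hM hK hK1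
  have hCM : C ≤ M := kst_le M K
  refine ⟨le_antisymm ?_ (sup_le (le_inf hK.1 (hKs.trans (sigmaCore_le Mstar))) (le_inf hCM hKstH.1)), ?_⟩
  · have hall := kstar_hall_sigma hG hI hM hK hK1 hMstar hKs hKstH
    set W := S ⊓ Mstar with hW
    have hCW : C ≤ W := le_inf inf_le_left hKstH.1
    have hWC : W ≤ C := by
      rw [← Subgroup.relIndex_eq_one]
      by_contra hne
      obtain ⟨r, hr, hd⟩ := Nat.exists_prime_and_dvd hne
      refine hall.2.2 r hr ?_ (hd.trans ?_)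
      · exact piNat_card_piCoreOf (Cfsg.sigma M) M r hr
          ((hd.trans (Subgroup.relIndex_dvd_card _ _)).trans (Subgroup.card_dvd_of_le inf_le_left))
      · rw [← Subgroup.relIndex_mul_relIndex C W Mstar hCW inf_le_right]
        exact dvd_mul_right _ _
    intro g hg
    have hgC : g ∈ Subgroup.normalizer (C : Set G) := by
      rw [← le_antisymm hWC hCW]
      exact mem_normalizer_inf (piCoreOf_normal _ _ (Subgroup.mem_inf.mp hg).1)
        (Subgroup.le_normalizer (Subgroup.mem_inf.mp hg).2)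
    obtain ⟨r, hr, hrd⟩ := Nat.exists_prime_and_dvd (n := Nat.card C) fun e => hC1 (Subgroup.card_eq_one.mp e)
    have := Fact.mk hr
    obtain ⟨c, hc⟩ := exists_prime_orderOf_dvd_card' (G := C) r hrd
    obtain ⟨-, hN, -⟩ := (hI.kappaHall Mstar hMstar C hKstH hC1).2.2 (Subgroup.zpowers (c : G))
      (Subgroup.zpowers_le.mpr c.2) (by rw [Nat.card_zpowers, Subgroup.orderOf_coe, hc]; exact hr)
    have h1 : g ∈ Mstar ⊓ Subgroup.normalizer (C : Set G) := ⟨(Subgroup.mem_inf.mp hg).2, hgC⟩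
    rw [hN, ← hKst, sup_comm] at h1
    exact h1
  · have hKc := hKU.cyclic
    have hCc : IsCyclic C := kappa_cyclic hG hI hMstar hKstH
    obtain ⟨k, hk⟩ := IsCyclic.exists_ofOrder_eq_natCard (α := K)
    obtain ⟨c, hc⟩ := IsCyclic.exists_ofOrder_eq_natCard (α := C)
    have hcomm : Commute (k : G) (c : G) :=
      Subgroup.mem_centralizer_iff.mp (Subgroup.mem_inf.mp c.2).2 k k.2
    have hcop : (orderOf (k : G)).Coprime (orderOf (c : G)) := Nat.coprime_of_dvd fun p hp h1 h2 =>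
      (kappa_elem_primes hK k.2 hp h1).2.2.1 (kst_sigma c.2 hp h2)
    have hinf : C ⊓ K = ⊥ := (Subgroup.eq_bot_iff_forall _).mpr fun z hz => by
      by_contra hz1
      obtain ⟨p, hp, hd⟩ := Nat.exists_prime_and_dvd (n := orderOf z) fun e => hz1 (orderOf_eq_one_iff.mp e)
      exact (kappa_elem_primes hK (Subgroup.mem_inf.mp hz).2 hp hd).2.2.1
        (kst_sigma (Subgroup.mem_inf.mp hz).1 hp hd)
    refine isCyclic_of_orderOf_eq_card
      (⟨(k : G) * c, mul_mem (Subgroup.mem_sup_left k.2) (Subgroup.mem_sup_right c.2)⟩ : ↥(K ⊔ C)) ?_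
    rw [Subgroup.orderOf_mk, hcomm.orderOf_mul_eq_mul_orderOf_of_coprime hcop, Subgroup.orderOf_coe,
      Subgroup.orderOf_coe, hk, hc, CfsgLib.Coprime.card_sup_of_disjoint (kst_le_normalizer M K) hinf]

include hG hI hM hKU hK1 in
/-- **Theorem C**: one of `M`, `M*` has type `P₂`; every `H` with `κ(H) ≠ ∅` is conjugate to one of them. -/
theorem pair_types {Mstar : Subgroup G} (hMstar : IsCoatom Mstar)
    (hKst : K = Cfsg.sigmaCore Mstar ⊓ Subgroup.centralizer ((Cfsg.sigmaCore M ⊓ Subgroup.centralizer (K : Set G) : Subgroup G) : Set G))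
    (hKstH : Cfsg.IsPiHallOf (Cfsg.kappa Mstar) (Cfsg.sigmaCore M ⊓ Subgroup.centralizer (K : Set G)) Mstar) :
    (U ≠ ⊥ ∨ ∀ Ustar : Subgroup G, Cfsg.IsSigmaDecomposition Mstar (Cfsg.sigmaCore M ⊓ Subgroup.centralizer (K : Set G)) Ustar → Ustar ≠ ⊥) ∧
      ∀ H : Subgroup G, IsCoatom H → (Cfsg.kappa H).Nonempty →
        ∃ g : G, H = M.map (MulAut.conj g).toMonoidHom ∨ H = Mstar.map (MulAut.conj g).toMonoidHom := by
  have hK := hKU.hall
  refine ⟨?_, fun H hH hκ => ?_⟩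
  · obtain ⟨L, hL, h1, h2, hP⟩ := exists_pair hG hI hM hK hK1
    obtain rfl : Mstar = L := pair_unique hG hI hM hK hK1 hL h1 h2 hMstar hKst hKstH
    exact hP.imp (notTypeOne_iff hG hM hKU).mpr fun h Us hUs => (notTypeOne_iff hG hMstar hUs).mpr h
  obtain ⟨q, hqκ⟩ := hκ
  obtain ⟨A, hA⟩ := hI.kappaExists H hH
  have hA1 : A ≠ ⊥ := fun e => hA.2.2 q hqκ.1 hqκ (by
    rw [e, Subgroup.relIndex_bot_left]
    exact hqκ.2.1)
  obtain ⟨V, hAV⟩ := Hall14.exists_decomposition hG hH (kappa_cyclic hG hI hH hA) hA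
  obtain ⟨L, hL, h1, h2, -⟩ := exists_pair hG hI hH hA hA1
  have hc1 := (kappa_pair_centralizers_and_count hG hI (propKappaCyclic hG hI) M hM K U hKU hK1 Mstar hMstar
    hKst hKstH).2.2.2.2.2
  have hc2 := (kappa_pair_centralizers_and_count hG hI (propKappaCyclic hG hI) H hH A V hAV hA1 L hL h1 h2).2.2.2.2.2
  set T₁ := {a : G | ∃ g : G, ∃ z ∈ ((↑(K ⊔ Cfsg.sigmaCore M ⊓ Subgroup.centralizer (K : Set G)) : Set G) \
    ((K : Set G) ∪ ↑(Cfsg.sigmaCore M ⊓ Subgroup.centralizer (K : Set G)))), a = g * z * g⁻¹}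
  set T₂ := {a : G | ∃ g : G, ∃ z ∈ ((↑(A ⊔ Cfsg.sigmaCore H ⊓ Subgroup.centralizer (A : Set G)) : Set G) \
    ((A : Set G) ∪ ↑(Cfsg.sigmaCore H ⊓ Subgroup.centralizer (A : Set G)))), a = g * z * g⁻¹}
  obtain ⟨_, ⟨g, z, hz, rfl⟩, g', w, hw, he⟩ : (T₁ ∩ T₂).Nonempty := by
    by_contra h
    have h3 := Set.ncard_union_eq (Set.disjoint_iff_inter_eq_empty.mpr (Set.not_nonempty_iff_eq_empty.mp h))
    have h4 := Set.ncard_le_card (T₁ ∪ T₂)
    omega
  obtain ⟨a, ha, c, hc, hwe, -, ho⟩ := exists_coords hA hw.1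
  have hc1' : c ≠ 1 := fun e => hw.2 (Or.inl (by rw [hwe, e, mul_one]; exact ha))
  obtain ⟨p, hp, hd⟩ := Nat.exists_prime_and_dvd (n := orderOf c) fun e => hc1' (orderOf_eq_one_iff.mp e)
  have hpH : p ∈ Cfsg.sigma H := kst_sigma hc hp hd
  have hoz : orderOf z = orderOf w := by
    rw [← MulEquiv.orderOf_eq (MulAut.conj g) z, ← MulEquiv.orderOf_eq (MulAut.conj g') w]
    exact congrArg orderOf he
  have hpz : p ∣ Nat.card ↥(K ⊔ (Cfsg.sigmaCore M ⊓ Subgroup.centralizer (K : Set G))) :=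
    (hd.trans (ho ▸ dvd_mul_left _ _)).trans (hoz ▸ Subgroup.orderOf_dvd_natCard _ hz.1)
  rcases hp.dvd_mul.mp (hpz.trans (card_sup_dvd_mul (kst_le_normalizer M K))) with h | h
  · obtain ⟨t, ht⟩ := exists_cj_eq_of_sigma hI.disjoint hMstar hH (piNat_card_piCoreOf _ _ p hp
      (h.trans (Subgroup.card_dvd_of_le (hKst.le.trans inf_le_left)))) hpH
    exact ⟨t, Or.inr ht⟩
  · obtain ⟨t, ht⟩ := exists_cj_eq_of_sigma hI.disjoint hM hH (piNat_card_piCoreOf _ _ p hp
      (h.trans (Subgroup.card_dvd_of_le inf_le_left))) hpH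
    exact ⟨t, Or.inl ht⟩

include hG hI hM hKU hK1 in
/-- **Theorem C**: `K*` has prime order when `U = 1`. -/
theorem kstar_prime (hU : U = ⊥) :
    (Nat.card ↥(Cfsg.sigmaCore M ⊓ Subgroup.centralizer (K : Set G))).Prime := by
  obtain ⟨L, hL, -, h2, hP⟩ := exists_pair hG hI hM hKU.hall hK1
  refine card_prime_of_not_type_one hG hI hL h2 (kstar_ne_bot hI hM hKU.hall hK1)
    (hP.resolve_left fun h => (notTypeOne_iff hG hM hKU).mpr h hU)

omit [Finite G] in
/-- If `D = [D, K]` then `C_D(K) ≤ D'` for coprime `K`. -/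
theorem inf_centralizer_le_derived [Finite G] {D K : Subgroup G} (hKD : K ≤ Subgroup.normalizer (D : Set G))
    (hcop : (Nat.card K).Coprime (Nat.card D)) (hD : ⁅D, K⁆ = D) :
    D ⊓ Subgroup.centralizer (K : Set G) ≤ ⁅D, D⁆ := by
  set N := Subgroup.normalizer (D : Set G) with hN
  have hDN : D ≤ N := Subgroup.le_normalizer
  set D' := ⁅D, D⁆ with hD'
  have hND' : N ≤ Subgroup.normalizer (D' : Set G) := InvariantCore.le_normalizer_commutator le_rfl le_rfl
  set E := D'.subgroupOf N with hE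
  have : E.Normal :=
    (Subgroup.normal_subgroupOf_iff_le_normalizer ((Subgroup.commutator_le_self D).trans hDN)).mpr hND'
  set f := QuotientGroup.mk' E with hf
  set V := (D.subgroupOf N).map f with hV
  set A := (K.subgroupOf N).map f with hA
  have hVn : V.Normal :=
    ((Subgroup.normal_subgroupOf_iff_le_normalizer hDN).mpr le_rfl).map f (QuotientGroup.mk'_surjective E)
  have hVc : IsMulCommutative V := by
    refine ⟨⟨?_⟩⟩
    rintro ⟨_, ⟨a, ha, rfl⟩⟩ ⟨_, ⟨b, hb, rfl⟩⟩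
    refine Subtype.ext ?_
    change f a * f b = f b * f a
    rw [← commutatorElement_eq_one_iff_mul_comm, ← map_commutatorElement, hf, QuotientGroup.mk'_apply,
      QuotientGroup.eq_one_iff]
    exact Subgroup.commutator_mem_commutator (show (a : G) ∈ D from ha) (show (b : G) ∈ D from hb)
  have hcop' : (Nat.card A).Coprime (Nat.card V) := by
    refine (hcop.coprime_dvd_left ?_).coprime_dvd_right ?_
    · exact (Subgroup.card_map_dvd (K.subgroupOf N) f).trans
        (Nat.card_congr (Subgroup.subgroupOfEquivOfLe hKD).toEquiv).dvd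
    · exact (Subgroup.card_map_dvd (D.subgroupOf N) f).trans
        (Nat.card_congr (Subgroup.subgroupOfEquivOfLe hDN).toEquiv).dvd
  rintro x ⟨hxD, hxK⟩
  have hfx : f ⟨x, hDN hxD⟩ ∈ ⁅V, A⁆ ⊓ Subgroup.centralizer (A : Set _) := by
    refine ⟨?_, Subgroup.mem_centralizer_iff.mpr ?_⟩
    · rw [hV, hA, ← Subgroup.map_commutator]
      refine Subgroup.mem_map_of_mem f ?_
      have h4 : ⁅D, K⁆ = (⁅D.subgroupOf N, K.subgroupOf N⁆).map N.subtype := by
        rw [Subgroup.map_commutator, Subgroup.map_subgroupOf_eq_of_le hDN,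
          Subgroup.map_subgroupOf_eq_of_le hKD]
      obtain ⟨w, hw, hwe⟩ : x ∈ (⁅D.subgroupOf N, K.subgroupOf N⁆).map N.subtype := h4 ▸ hD.symm ▸ hxD
      obtain rfl : w = ⟨x, hDN hxD⟩ := Subtype.ext hwe
      exact hw
    · rintro _ ⟨e, he, rfl⟩
      rw [← map_mul, ← map_mul]
      exact congrArg f (Subtype.ext (Subgroup.mem_centralizer_iff.mp hxK e he))
  rw [Coprime.commutator_inf_centralizer_eq_bot A V
    (le_top.trans (Subgroup.normalizer_eq_top_iff.mpr hVn).ge) hcop', Subgroup.mem_bot] at hfx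
  exact (QuotientGroup.eq_one_iff (⟨x, hDN hxD⟩ : N)).mp hfx

include hG hI hM hKU hK1 in
/-- **Theorem C**: `M' = U M_σ` and `K* ≤ M''`. -/
theorem derived_eq : ⁅M, M⁆ = U ⊔ Cfsg.sigmaCore M ∧
    (Cfsg.sigmaCore M ⊓ Subgroup.centralizer (K : Set G)) ≤ ⁅⁅M, M⁆, ⁅M, M⁆⁆ := by
  set S := Cfsg.sigmaCore M with hS
  have hSM : S ≤ M := sigmaCore_le M
  have hUeq := decomp_commutator hG hI hM hKU hK1
  have hcomm := commutator_sigmaCore_compl hG hM (isComplIn_sup hG hM hKU)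
  have hle : ⁅M, M⁆ = U ⊔ S := le_antisymm (decomp_derived_le hM hKU) (sup_le
    (hUeq.ge.trans (Subgroup.commutator_mono hKU.compl.1 hKU.hall.1))
    (hcomm.ge.trans (Subgroup.commutator_mono hSM (sup_le hKU.compl.1 hKU.hall.1))))
  refine ⟨hle, ?_⟩
  set D := ⁅M, M⁆ with hD
  have hKD : K ≤ Subgroup.normalizer (D : Set G) :=
    hKU.hall.1.trans (InvariantCore.le_normalizer_commutator Subgroup.le_normalizer Subgroup.le_normalizer)
  have hcop : (Nat.card K).Coprime (Nat.card D) := Nat.coprime_of_dvd fun r hr h1 h2 => by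
    rw [hle, sup_comm] at h2
    rcases hr.dvd_mul.mp (h2.trans (sup_comm U S ▸
      card_sup_dvd_mul (hKU.compl.1.trans (piCoreOf_normal _ _)))) with h | h
    · exact ((decomp_U_hall hG hM hKU).2.1 r hr h).2.1 (hKU.hall.2.1 r hr h1)
    · exact (hKU.hall.2.1 r hr h1).2.2.1 (piNat_card_piCoreOf (Cfsg.sigma M) M r hr h)
  set N := ⁅D, K⁆ with hN
  have hND : N ≤ D := commutator_le_of_normalizes hKD
  have hUN : U ≤ N := hUeq.ge.trans (Subgroup.commutator_mono (hle ▸ le_sup_left) le_rfl)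
  have hSN : S ≤ N := by
    refine hcomm.ge.trans (Subgroup.commutator_le.mpr fun s hs e he => ?_)
    obtain ⟨k, hk, u, hu, rfl⟩ := CfsgLib.Coprime.exists_mul_of_mem_sup hKU.normal (sup_comm U K ▸ he)
    have hsD : s ∈ D := hle ▸ Subgroup.mem_sup_right hs
    have h1 : s * u * s⁻¹ * u⁻¹ ∈ N :=
      mul_mem ((Subgroup.mem_normalizer_iff.mp (Subgroup.normalizer_commutator_ge_left _ _ hsD) u).mp (hUN hu))
        (inv_mem (hUN hu))
    have h2 := (Subgroup.mem_normalizer_iff.mp (Subgroup.normalizer_commutator_ge_right _ _ hk) _).mp h1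
    have h3 : ⁅s, k⁆ ∈ N := Subgroup.commutator_mem_commutator hsD hk
    rw [commutatorElement_def] at h3 ⊢
    rw [show s * (k * u) * s⁻¹ * (k * u)⁻¹ = s * k * s⁻¹ * k⁻¹ * (k * (s * u * s⁻¹ * u⁻¹) * k⁻¹) by group]
    exact mul_mem h3 h2
  refine le_trans (inf_le_inf (hle.ge.trans' le_sup_right) le_rfl) ?_
  exact inf_centralizer_le_derived hKD hcop (le_antisymm hND (hle.le.trans (sup_le hUN hSN)))

omit [Finite G] in
/-- A cyclic group has rank at most one. -/
theorem pRankLE_of_isCyclic {A : Subgroup G} (hA : IsCyclic A) {p : ℕ} (hp : p.Prime) (n : ℕ) (hn : 1 ≤ n) :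
    Cfsg.PRankLE p n A := by
  rw [pRankLE_iff]
  intro B hB
  have : IsCyclic B := isCyclic_of_injective B.subtype B.subtype_injective
  rw [← IsCyclic.exponent_eq_card]
  exact (Nat.le_of_dvd hp.pos (Monoid.exponent_dvd_of_forall_pow_eq_one fun a =>
    Subtype.ext (by simpa using hB.2 a a.2))).trans (Nat.le_self_pow (by omega) p)

include hG hI hM hKU hK1 in
/-- **Theorem C**: `K*` is cyclic and lies in the non-cyclic `M_F`. -/
theorem kstar_fittingHall :
    IsCyclic ↥(Cfsg.sigmaCore M ⊓ Subgroup.centralizer (K : Set G)) ∧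
      (Cfsg.sigmaCore M ⊓ Subgroup.centralizer (K : Set G)) ≠ ⊥ ∧
      (Cfsg.sigmaCore M ⊓ Subgroup.centralizer (K : Set G)) ≤ Cfsg.fittingHallOf M ∧
      ¬ IsCyclic (Cfsg.fittingHallOf M) := by
  have hK := hKU.hall
  set S := Cfsg.sigmaCore M with hS
  set C := S ⊓ Subgroup.centralizer (K : Set G) with hC
  have hC1 : C ≠ ⊥ := kstar_ne_bot hI hM hK hK1
  obtain ⟨L, hL, h1, h2, hP⟩ := exists_pair hG hI hM hK hK1
  refine ⟨kappa_cyclic hG hI hL h2, hC1, ?_⟩
  by_cases hne : Cfsg.fittingHallOf M = S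
  · rw [hne]
    refine ⟨inf_le_left, fun hcyc => ?_⟩
    by_cases hU : U = ⊥
    · have hE := isComplIn_sup hG hM hKU
      rw [hU, bot_sup_eq] at hE
      have hle := sigmaCore_inf_centralizer_le hG hM hE
      have hS' : ⁅S, S⁆ = ⊥ := Subgroup.commutator_eq_bot_iff_le_centralizer.mpr fun a ha =>
        Subgroup.mem_centralizer_iff.mpr fun b hb =>
          mul_comm_of_mem (IsCyclic.isMulCommutative (α := S)) hb ha
      rw [hS'] at hle
      exact hC1 (le_bot_iff.mp hle)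
    obtain ⟨p, hp, hd⟩ := Nat.exists_prime_and_dvd (n := Nat.card C) fun e => hC1 (Subgroup.card_eq_one.mp e)
    have := Fact.mk hp
    obtain ⟨W, hWS, -, -, hW⟩ := inUnique_layer hG hI hM hK hK1 ((notTypeOne_iff hG hM hKU).mp hU)
      (hd.trans (Subgroup.card_dvd_of_le inf_le_left))
    exact hW (pRankLE_of_isCyclic
      (isCyclic_of_injective (Subgroup.inclusion hWS) (Subgroup.inclusion_injective hWS)) hp 2 one_le_two)
  obtain ⟨-, -, -, hp, -, hβ, Q, hQF, hQn, hQp, hQi, -⟩ :=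
    OddOrder38.fitting_hall_ne_sigma hG hI M hM K U hKU hne fun _ => ⟨L, hL, h1, h2⟩
  set p := Nat.card C with hpdef
  have := Fact.mk hp
  have hQS : Cfsg.sigmaCore M ⊓ Q = Q := by
    refine inf_eq_right.mpr (le_sigmaCore hG hM (hQF.trans (fittingHallOf_le M)) fun r hr hd => ?_)
    obtain ⟨n, hn⟩ := hQp.exists_card_eq
    rw [hn] at hd
    rw [(Nat.prime_dvd_prime_iff_eq hr hp).mp (hr.dvd_of_dvd_pow hd)]
    exact piNat_card_piCoreOf (Cfsg.sigma M) M p hp (Subgroup.card_dvd_of_le inf_le_left)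
  have hQS' : Q ≤ S := hQS ▸ inf_le_left
  have hpgroup : ∀ X : Subgroup G, X ≤ S → IsPGroup p X → X ≤ Q := by
    intro X hXS hXp
    have hXn : X ≤ Subgroup.normalizer (Q : Set G) := (hXS.trans (sigmaCore_le M)).trans hQn
    have hsup : IsPGroup p ↥(X ⊔ Q) := hXp.to_sup_of_normal_right' hQp hXn
    refine le_sup_left.trans (Subgroup.relIndex_eq_one.mp ?_ : X ⊔ Q ≤ Q)
    obtain ⟨n, hn⟩ := hsup.exists_card_eq
    obtain ⟨i, -, hi⟩ := (Nat.dvd_prime_pow hp).mp (hn ▸ Subgroup.relIndex_dvd_card Q (X ⊔ Q))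
    rcases Nat.eq_zero_or_pos i with h0 | h0
    · rw [hi, h0, pow_zero]
    · refine absurd ?_ hQi
      rw [← Subgroup.relIndex_mul_relIndex Q (X ⊔ Q) S le_sup_right (sup_le hXS hQS'), hi]
      exact (dvd_pow_self p h0.ne').mul_right _
  refine ⟨(hpgroup C inf_le_left (IsPGroup.of_card (n := 1) (by rw [pow_one]))).trans hQF, fun hcyc => ?_⟩
  obtain ⟨A, hAM, hAe, hA3⟩ := not_pRankLE_subgroup_iff.mp hβ.1.2
  have hAS : A ≤ S := le_sigmaCore hG hM hAM fun r hr hd => by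
    obtain ⟨n, hn⟩ := (isPGroup_of_elemAb hAe).exists_card_eq
    rw [hn] at hd
    rw [(Nat.prime_dvd_prime_iff_eq hr hp).mp (hr.dvd_of_dvd_pow hd)]
    exact piNat_card_piCoreOf (Cfsg.sigma M) M p hp (Subgroup.card_dvd_of_le inf_le_left)
  have hAF := (hpgroup A hAS (isPGroup_of_elemAb hAe)).trans hQF
  have h := pRankLE_iff.mp (pRankLE_of_isCyclic hcyc hp 2 one_le_two) (A.subgroupOf (Cfsg.fittingHallOf M))
    (elemAb_comap hAe _ (Cfsg.fittingHallOf M).subtype_injective)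
  rw [Nat.card_congr (Subgroup.subgroupOfEquivOfLe hAF).toEquiv] at h
  rw [hA3] at h
  exact absurd h (not_le.mpr (Nat.pow_lt_pow_right hp.one_lt (by norm_num)))

end CfsgLib.OddOrder40
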