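import Mathlib
import Cfsg.Agent.Lib.OddOrder40.TheoremB
import Cfsg.Agent.Lib.OddOrder38.Count14

/-!
# BG Theorem D and the count of Theorem E
-/

set_option autoImplicit false

namespace CfsgLib.OddOrder40

open Subgroup CfsgLib.OddOrder CfsgLib.OddOrder.Transitivity CfsgLib.OddOrder38 CfsgLib.OddOrder41

universe u

variable {G : Type u} [Group G] [Finite G] (hG : Cfsg.IsMinSimpleOddOrder G) (hI : Inputs G)
  {M : Subgroup G} (hM : IsCoatom M)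

include hG hI hM in
/-- Conjugates of `M` over `x` with `C_G(x) ≤ M`. -/
theorem mem_of_conj_mem {x g : G} (hx : x ∈ Cfsg.sigmaCore M) (hx1 : x ≠ 1)
    (hxM : Subgroup.centralizer ({x} : Set G) ≤ M) (hg : g * x * g⁻¹ ∈ M) : g ∈ M := by
  obtain ⟨p, hp, hd⟩ := Nat.exists_prime_and_dvd (n := orderOf x) fun h => hx1 (orderOf_eq_one_iff.mp h)
  obtain ⟨m, hm, c, hc, rfl⟩ := exists_mul_centralizer hG hI.toLocal hM (sigmaCore_le M hx) hp
    (mem_sigma_of_mem_sigmaCore hx hp hd) hd hg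
  exact mul_mem hm (hxM hc)

include hG hI hM in
/-- `R(x)` meets `M` trivially. -/
theorem supportR_inf_eq_bot {x r : G} (hx : x ∈ Cfsg.sigmaCore M) (hx1 : x ≠ 1)
    (hr : r ∈ Cfsg.supportR M x) (hrM : r ∈ M) : r = 1 := by
  by_cases hxM : Subgroup.centralizer ({x} : Set G) ≤ M
  · rw [Cfsg.supportR, dif_neg fun h => h.1 hxM, Subgroup.mem_bot] at hr
    exact hr
  obtain ⟨L, hL, honly, -, hnil, hcompl, -⟩ := centralizer_partner hG hI hM hx hx1 hxM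
  rw [supportR_eq hG hL hxM honly hnil] at hr
  obtain ⟨hrS, -⟩ := Subgroup.mem_inf.mp hr
  exact Subgroup.mem_bot.mp (hcompl.2.2.1.le ⟨⟨hrM, sigmaCore_le L hrS⟩, hrS⟩)

include hG hI hM in
/-- `R(x)` is transported by every element carrying `x` into `M`. -/
theorem supportR_transport {x r h : G} (hx : x ∈ Cfsg.sigmaCore M) (hx1 : x ≠ 1)
    (hr : r ∈ Cfsg.supportR M x) (hh : h * x * h⁻¹ ∈ Cfsg.sigmaCore M) :
    h * r * h⁻¹ ∈ Cfsg.supportR M (h * x * h⁻¹) := by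
  by_cases hxM : Subgroup.centralizer ({x} : Set G) ≤ M
  · rw [Cfsg.supportR, dif_neg fun h => h.1 hxM, Subgroup.mem_bot] at hr
    rw [hr, mul_one, mul_inv_cancel]
    exact one_mem _
  obtain ⟨L, hL, honly, -, hnil, -, hτ⟩ := centralizer_partner hG hI hM hx hx1 hxM
  rw [supportR_eq hG hL hxM honly hnil] at hr
  have hx0 : h * x * h⁻¹ ≠ 1 := fun e => hx1 (by simpa using e)
  have hx0M : ¬ Subgroup.centralizer ({h * x * h⁻¹} : Set G) ≤ M := by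
    intro hle
    rw [← Sigma11.cj_centralizer_singleton, cj_le_iff] at hle
    obtain ⟨p, hp, hd⟩ := Nat.exists_prime_and_dvd (n := orderOf x) fun e => hx1 (orderOf_eq_one_iff.mp e)
    refine (hτ p hp hd).2.1 ?_
    rw [← honly.2 _ (isCoatom_map_conj hM h⁻¹) hle, sigma_cj]
    exact mem_sigma_of_mem_sigmaCore hx hp hd
  obtain ⟨L', hL', honly', -, hnil', -, -⟩ := centralizer_partner hG hI hM hh hx0 hx0M
  have heq : cj h L = L' := honly'.2 _ (isCoatom_map_conj hL h) (by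
    rw [← Sigma11.cj_centralizer_singleton]
    exact cj_mono honly.1)
  rw [supportR_eq hG hL' hx0M honly' hnil', ← heq, sigmaCore_cj, ← Sigma11.cj_centralizer_singleton]
  exact ⟨mem_cj_self.mpr (Subgroup.mem_inf.mp hr).1, mem_cj_self.mpr (Subgroup.mem_inf.mp hr).2⟩

include hG hI hM in
/-- **Theorem E**: the number of elements of the conjugates of the cosets `x R(x)`. -/
theorem ncard_tildeOf : Set.ncard (Cfsg.tildeOf M ((Cfsg.sigmaCore M : Set G) \ {1})) =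
    (Nat.card (Cfsg.sigmaCore M) - 1) * M.index := by
  set S := Cfsg.sigmaCore M with hS
  set T := Cfsg.tildeOf M ((S : Set G) \ {1}) with hT
  let Y := {y : G | ∃ g x : G, x ∈ S ∧ x ≠ 1 ∧ y = g * x * g⁻¹}
  have key : ∀ y : Y, ∃ g x : G, x ∈ S ∧ x ≠ 1 ∧ (y : G) = g * x * g⁻¹ := fun y => y.2
  choose g₀ x₀ hx₀ hx₀1 hy₀ using key
  let X := {x : G // x ∈ S ∧ x ≠ 1}
  let Z := (y : Y) × ↥(Cfsg.supportR M (x₀ y))
  have hcomm : ∀ (y : Y) (r : ↥(Cfsg.supportR M (x₀ y))), Commute (x₀ y) r := fun y r =>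
    (supportR_spec hG hI hM (hx₀ y) (hx₀1 y) r.2).1
  -- `G × S# ≃ Z × M`
  let Φ : Z × M → G × X := fun z => (g₀ z.1.1 * z.1.2 * z.2,
    ⟨(z.2 : G)⁻¹ * x₀ z.1.1 * z.2, by
      refine ⟨?_, fun e => hx₀1 z.1.1 (mul_inv_eq_one.mp ?_ |>.trans rfl)⟩
      · exact (Subgroup.mem_normalizer_iff''.mp (piCoreOf_normal (Cfsg.sigma M) M z.2.2) _).mp (hx₀ z.1.1)
      · simpa [mul_assoc] using congrArg (fun w => (z.2 : G) * w * (z.2 : G)⁻¹) e⟩)
  have hΦy : ∀ z : Z × M, (Φ z).1 * ((Φ z).2 : G) * (Φ z).1⁻¹ = (z.1.1 : G) := fun z => by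
    rw [hy₀ z.1.1]
    change g₀ z.1.1 * z.1.2 * z.2 * ((z.2 : G)⁻¹ * x₀ z.1.1 * z.2) * (g₀ z.1.1 * z.1.2 * z.2)⁻¹ = _
    have hc := (hcomm z.1.1 z.1.2).eq
    calc g₀ z.1.1 * z.1.2 * z.2 * ((z.2 : G)⁻¹ * x₀ z.1.1 * z.2) * (g₀ z.1.1 * z.1.2 * z.2)⁻¹
        = g₀ z.1.1 * ((z.1.2 : G) * x₀ z.1.1) * (z.1.2 : G)⁻¹ * (g₀ z.1.1)⁻¹ := by group
      _ = g₀ z.1.1 * x₀ z.1.1 * (g₀ z.1.1)⁻¹ := by rw [← hc]; group
  have hΦ : Function.Bijective Φ := by
    refine ⟨?_, ?_⟩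
    · rintro ⟨⟨y, r⟩, m⟩ ⟨⟨y', r'⟩, m'⟩ h
      obtain rfl : y = y' := Subtype.ext ((hΦy ⟨⟨y, r⟩, m⟩).symm.trans ((congrArg (fun p : G × X =>
        p.1 * (p.2 : G) * p.1⁻¹) h).trans (hΦy ⟨⟨y', r'⟩, m'⟩)))
      have h1 : g₀ y * r * m = g₀ y * r' * m' := congrArg Prod.fst h
      rw [mul_assoc, mul_assoc] at h1
      have h2 : (r : G) * m = r' * m' := mul_left_cancel h1
      have h3 : (r' : G)⁻¹ * r = m' * (m : G)⁻¹ := by
        rw [eq_mul_inv_iff_mul_eq, mul_assoc, h2, inv_mul_cancel_left]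
      have h4 : (r' : G)⁻¹ * r = 1 := supportR_inf_eq_bot hG hI hM (hx₀ y) (hx₀1 y)
        (mul_mem (inv_mem r'.2) r.2) (h3 ▸ mul_mem m'.2 (inv_mem m.2))
      obtain rfl : r = r' := Subtype.ext (inv_mul_eq_one.mp h4).symm
      rw [show m = m' from Subtype.ext (mul_left_cancel h2)]
    · rintro ⟨g, x, hxS, hx1⟩
      let y : Y := ⟨g * x * g⁻¹, g, x, hxS, hx1, rfl⟩
      set h := (g₀ y)⁻¹ * g with hh
      have hx0 : h * x * h⁻¹ = x₀ y := by
        have e' : g * x * g⁻¹ = g₀ y * x₀ y * (g₀ y)⁻¹ := hy₀ y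
        rw [hh, show (g₀ y)⁻¹ * g * x * ((g₀ y)⁻¹ * g)⁻¹ = (g₀ y)⁻¹ * (g * x * g⁻¹) * g₀ y by group, e']
        group
      obtain ⟨p, hp, hd⟩ := Nat.exists_prime_and_dvd (n := orderOf x)
        fun h => hx1 (orderOf_eq_one_iff.mp h)
      obtain ⟨m, hm, c, hc, hmc⟩ := exists_mul_centralizer hG hI.toLocal hM (sigmaCore_le M hxS) hp
        (mem_sigma_of_mem_sigmaCore hxS hp hd) hd (hx0.symm ▸ sigmaCore_le M (hx₀ y))
      have hc' : c * x = x * c := Subgroup.mem_centralizer_singleton_iff.mp hc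
      have hx0' : x₀ y = m * x * m⁻¹ := by
        rw [← hx0, hmc, show m * c * x * (m * c)⁻¹ = m * (c * x) * c⁻¹ * m⁻¹ by group, hc']
        group
      have hc0 : m * c * m⁻¹ ∈ Subgroup.centralizer ({x₀ y} : Set G) := by
        rw [Subgroup.mem_centralizer_singleton_iff, hx0',
          show m * c * m⁻¹ * (m * x * m⁻¹) = m * (c * x) * m⁻¹ by group, hc']
        group
      obtain ⟨r, hr, m', hm', he⟩ := exists_supportR_mul hG hI hM (hx₀ y) (hx₀1 y) hc0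
      have hg : g₀ y * r * (m' * m) = g := by
        rw [mul_assoc, ← mul_assoc r, ← he, show m * c * m⁻¹ * m = m * c by group, ← hmc, hh,
          mul_inv_cancel_left]
      refine ⟨(⟨y, ⟨r, hr⟩⟩, ⟨m' * m, mul_mem hm' hm⟩), Prod.ext hg (Subtype.ext ?_)⟩
      have h1 := hΦy (⟨y, ⟨r, hr⟩⟩, ⟨m' * m, mul_mem hm' hm⟩)
      rw [show (Φ (⟨y, ⟨r, hr⟩⟩, ⟨m' * m, mul_mem hm' hm⟩)).1 = g from hg] at h1
      exact mul_left_cancel (mul_right_cancel h1)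
  -- `Z ≃ T`
  let Ψ : Z → T := fun z => ⟨g₀ z.1 * (x₀ z.1 * z.2) * (g₀ z.1)⁻¹,
    x₀ z.1, ⟨hx₀ z.1, hx₀1 z.1⟩, z.2, z.2.2, g₀ z.1, rfl⟩
  have hΨ : Function.Bijective Ψ := by
    refine ⟨?_, ?_⟩
    · rintro ⟨y, r⟩ ⟨y', r'⟩ h
      have h' : g₀ y * (x₀ y * r) * (g₀ y)⁻¹ = g₀ y' * (x₀ y' * r') * (g₀ y')⁻¹ := congrArg Subtype.val h
      have hord : ∀ (z : Y) (w : G), orderOf (g₀ z * w * (g₀ z)⁻¹) = orderOf w := fun z w =>
        MulEquiv.orderOf_eq (MulAut.conj (g₀ z)) w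
      have he : g₀ y * x₀ y * (g₀ y)⁻¹ * (g₀ y * r * (g₀ y)⁻¹) =
          g₀ y' * x₀ y' * (g₀ y')⁻¹ * (g₀ y' * r' * (g₀ y')⁻¹) := by
        simp only [mul_assoc, inv_mul_cancel_left] at h' ⊢
        exact h'
      have hxeq := eq_of_parts ((hcomm y r).map (MulAut.conj (g₀ y))) ((hcomm y' r').map (MulAut.conj (g₀ y')))
        he (Nat.coprime_of_dvd fun p hp h1 h2 => by
        simp only [MulAut.conj_apply, hord] at h1 h2
        have hpσ : p ∈ Cfsg.sigma M := (hp.dvd_mul.mp h2).elim (mem_sigma_of_mem_sigmaCore (hx₀ y) hp)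
          (mem_sigma_of_mem_sigmaCore (hx₀ y') hp)
        exact (hp.dvd_mul.mp h1).elim
          (fun hd => not_mem_sigma_of_supportR hG hI hM (hx₀ y) (hx₀1 y) r.2 hp hd hpσ)
          (fun hd => not_mem_sigma_of_supportR hG hI hM (hx₀ y') (hx₀1 y') r'.2 hp hd hpσ))
      obtain rfl : y = y' := Subtype.ext ((hy₀ y).trans (hxeq.trans (hy₀ y').symm))
      rw [show r = r' from Subtype.ext (mul_left_cancel (mul_left_cancel (mul_right_cancel h')))]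
    · rintro ⟨t, x, ⟨hx, hx1⟩, r, hr, g, rfl⟩
      let y : Y := ⟨g * x * g⁻¹, g, x, hx, hx1, rfl⟩
      set h := (g₀ y)⁻¹ * g with hh
      have hx0 : h * x * h⁻¹ = x₀ y := by
        have e' : g * x * g⁻¹ = g₀ y * x₀ y * (g₀ y)⁻¹ := hy₀ y
        rw [hh, show (g₀ y)⁻¹ * g * x * ((g₀ y)⁻¹ * g)⁻¹ = (g₀ y)⁻¹ * (g * x * g⁻¹) * g₀ y by group, e']
        group
      refine ⟨⟨y, ⟨h * r * h⁻¹, hx0 ▸ supportR_transport hG hI hM hx hx1 hr (hx0.symm ▸ hx₀ y)⟩⟩,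
        Subtype.ext ?_⟩
      change g₀ y * (x₀ y * (h * r * h⁻¹)) * (g₀ y)⁻¹ = g * (x * r) * g⁻¹
      rw [← hx0, hh]
      group
  have h1 := Nat.card_congr (Equiv.ofBijective Φ hΦ)
  have h2 := Nat.card_congr (Equiv.ofBijective Ψ hΨ)
  rw [Nat.card_prod, Nat.card_prod, h2, Nat.card_coe_set_eq] at h1
  have h3 : Nat.card X = Nat.card S - 1 := by
    have e : {x : G | x ∈ S ∧ x ≠ 1} = (S : Set G) \ {1} := Set.ext fun x => by simp
    have e3 : Nat.card S = (S : Set G).ncard := Nat.card_coe_set_eq _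
    rw [show Nat.card X = ({x : G | x ∈ S ∧ x ≠ 1} : Set G).ncard from
      Nat.card_coe_set_eq {x : G | x ∈ S ∧ x ≠ 1}, e, Set.ncard_sdiff_singleton_of_mem S.one_mem, e3]
  rw [h3, ← Subgroup.card_mul_index M] at h1
  refine Nat.eq_of_mul_eq_mul_right (Nat.card_pos (α := M)) (h1.trans ?_)
  ring

include hG hI hM in
/-- **Theorem D**: the centralizer of an element of `M_σ`. -/
theorem centralizer_hall {x : G} (hx : x ∈ Cfsg.sigmaCore M) (hx1 : x ≠ 1) :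
    (Nat.card ↥(M ⊓ Subgroup.centralizer ({x} : Set G))).Coprime
        ((M ⊓ Subgroup.centralizer ({x} : Set G)).relIndex (Subgroup.centralizer ({x} : Set G))) ∧
      ∃ R : Subgroup G, Subgroup.centralizer ({x} : Set G) ≤ Subgroup.normalizer (R : Set G) ∧
        Cfsg.IsComplIn (M ⊓ Subgroup.centralizer ({x} : Set G)) R (Subgroup.centralizer ({x} : Set G)) ∧
        ∀ g : G, x ∈ M.map (MulAut.conj g).toMonoidHom →
          ∃! r : G, r ∈ R ∧ M.map (MulAut.conj r).toMonoidHom = M.map (MulAut.conj g).toMonoidHom := by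
  set C := Subgroup.centralizer ({x} : Set G) with hC
  by_cases hxM : C ≤ M
  · rw [inf_eq_right.mpr hxM]
    refine ⟨by rw [Subgroup.relIndex_self]; exact Nat.coprime_one_right _, ⊥, fun c _ => ?_,
      ⟨le_rfl, bot_le, inf_bot_eq C, fun c hc => ⟨c, hc, 1, one_mem _, (mul_one c).symm⟩⟩, fun g hg => ?_⟩
    · exact mem_normalizer_of_cj_eq (Subgroup.map_bot _)
    · have hgM : g ∈ M := by
        refine inv_mem_iff.mp (mem_of_conj_mem hG hI hM hx hx1 hxM ?_)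
        simpa using mem_cj.mp hg
      refine ⟨1, ⟨one_mem _, (cj_one M).trans (cj_eq_of_mem hgM).symm⟩, fun r hr => ?_⟩
      exact Subgroup.mem_bot.mp hr.1
  obtain ⟨L, hL, honly, -, -, hcompl, -⟩ := centralizer_partner hG hI hM hx hx1 hxM
  set D := Cfsg.sigmaCore L ⊓ C with hD
  have hxML : x ∈ M ⊓ L := ⟨sigmaCore_le M hx, honly.1 (self_mem_centralizer x)⟩
  have hcomp : Cfsg.IsComplIn (M ⊓ C) D C := by
    refine ⟨inf_le_right, inf_le_right, (Subgroup.eq_bot_iff_forall _).mpr fun w hw => ?_, fun c hc => ?_⟩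
    · obtain ⟨⟨hwM, -⟩, hwS, -⟩ := hw
      exact Subgroup.mem_bot.mp (hcompl.2.2.1.le ⟨⟨hwM, sigmaCore_le L hwS⟩, hwS⟩)
    · obtain ⟨a, ha, b, hb, rfl, hbx⟩ := centralizer_decomp hcompl hxML (honly.1 hc) (by
        rw [Subgroup.mem_centralizer_singleton_iff.mp hc, mul_inv_cancel_right]
        exact sigmaCore_le M hx)
      have hbC : b ∈ C := Subgroup.mem_centralizer_singleton_iff.mpr hbx
      exact ⟨a, ⟨(Subgroup.mem_inf.mp ha).1, (Subgroup.mul_mem_cancel_right C hbC).mp hc⟩, b, ⟨hb, hbC⟩, rfl⟩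
  refine ⟨?_, D, CubeUnique.le_normalizer_inf (honly.1.trans (piCoreOf_normal _ _)) Subgroup.le_normalizer,
    hcomp, fun g hg => ?_⟩
  · rw [IsComplIn.relIndex_left hcomp]
    refine Nat.coprime_of_dvd fun p hp h1 h2 => not_mem_sigma_of_compl hG hL hcompl hp ?_
      (piNat_card_piCoreOf (Cfsg.sigma L) L p hp (h2.trans (Subgroup.card_dvd_of_le inf_le_left)))
    exact h1.trans (Subgroup.card_dvd_of_le (inf_le_inf_left M honly.1))
  · obtain ⟨p, hp, hd⟩ := Nat.exists_prime_and_dvd (n := orderOf x) fun h => hx1 (orderOf_eq_one_iff.mp h)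
    obtain ⟨m, hm, c, hc, hmc⟩ := exists_mul_centralizer hG hI.toLocal hM (sigmaCore_le M hx) hp
      (mem_sigma_of_mem_sigmaCore hx hp hd) hd (g := g⁻¹) (by simpa using mem_cj.mp hg)
    obtain ⟨a, ha, b, hb, rfl⟩ := hcomp.2.2.2 c hc
    refine ⟨b⁻¹, ⟨inv_mem hb, ?_⟩, fun r hr => ?_⟩
    · change cj b⁻¹ M = cj g M
      rw [show g = b⁻¹ * (m * a)⁻¹ by rw [← mul_inv_rev, mul_assoc, ← hmc, inv_inv], ← cj_mul b⁻¹ (m * a)⁻¹,
        cj_eq_of_mem (inv_mem (mul_mem hm (Subgroup.mem_inf.mp ha).1))]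
    · have h2 : cj (b * r) M = M := by
        rw [← cj_mul, show cj r M = cj g M from hr.2,
          show g = b⁻¹ * (m * a)⁻¹ by rw [← mul_inv_rev, mul_assoc, ← hmc, inv_inv], cj_mul,
          mul_inv_cancel_left, cj_eq_of_mem (inv_mem (mul_mem hm (Subgroup.mem_inf.mp ha).1))]
      have h3 : b * r ∈ M ⊓ D ⊓ C := ⟨⟨mem_of_cj_eq hG hM h2, mul_mem hb hr.1⟩, (mul_mem hb hr.1 : b * r ∈ D).2⟩
      have h4 : b * r ∈ (M ⊓ C) ⊓ D := ⟨⟨h3.1.1, h3.2⟩, h3.1.2⟩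
      rw [hcomp.2.2.1, Subgroup.mem_bot] at h4
      exact eq_inv_of_mul_eq_one_right h4

include hG hI hM in
/-- **Theorem D**: the maximal subgroup over `C_G(x)`. -/
theorem centralizer_partner_type {x : G} (hx : x ∈ Cfsg.sigmaCore M) (hx1 : x ≠ 1)
    (hxM : ¬ Subgroup.centralizer ({x} : Set G) ≤ M) :
    ∃ N : Subgroup G, (IsCoatom N ∧ Subgroup.centralizer ({x} : Set G) ≤ N) ∧
        (∀ L : Subgroup G, IsCoatom L → Subgroup.centralizer ({x} : Set G) ≤ L → L = N) ∧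
        Cfsg.sigmaCore N = Cfsg.fittingHallOf N ∧
        Subgroup.centralizer ({x} : Set G) ≤ Subgroup.normalizer ((Cfsg.sigmaCore N ⊓ Subgroup.centralizer ({x} : Set G) : Subgroup G) : Set G) ∧
        Cfsg.IsComplIn (M ⊓ Subgroup.centralizer ({x} : Set G)) (Cfsg.sigmaCore N ⊓ Subgroup.centralizer ({x} : Set G)) (Subgroup.centralizer ({x} : Set G)) ∧
        Cfsg.IsComplIn (M ⊓ N) (Cfsg.sigmaCore N) N ∧
        ∀ K' U' : Subgroup G, Cfsg.IsSigmaDecomposition N K' U' →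
          U' ≠ ⊥ ∧ x ∈ Cfsg.sigmaA N U' ∧ x ∉ Cfsg.sigmaCore N := by
  set C := Subgroup.centralizer ({x} : Set G) with hC
  obtain ⟨L, hL, honly, -, hnil, hcompl, hτ⟩ := centralizer_partner hG hI hM hx hx1 hxM
  have hxML : x ∈ M ⊓ L := ⟨sigmaCore_le M hx, honly.1 (self_mem_centralizer x)⟩
  have hdec : ∀ c ∈ C, ∃ a ∈ M ⊓ C, ∃ b ∈ Cfsg.sigmaCore L ⊓ C, c = a * b := by
    intro c hc
    obtain ⟨a, ha, b, hb, rfl, hbx⟩ := centralizer_decomp hcompl hxML (honly.1 hc) (by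
      rw [Subgroup.mem_centralizer_singleton_iff.mp hc, mul_inv_cancel_right]
      exact sigmaCore_le M hx)
    have hbC : b ∈ C := Subgroup.mem_centralizer_singleton_iff.mpr hbx
    exact ⟨a, ⟨(Subgroup.mem_inf.mp ha).1, (Subgroup.mul_mem_cancel_right C hbC).mp hc⟩, b, ⟨hb, hbC⟩, rfl⟩
  obtain ⟨c, hc, hcM⟩ := SetLike.not_le_iff_exists.mp hxM
  obtain ⟨a, ha, b, hb, rfl⟩ := hdec c hc
  have hb1 : b ≠ 1 := fun h => hcM (by rw [h, mul_one]; exact (Subgroup.mem_inf.mp ha).1)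
  have hhat : x ∈ Cfsg.sigmaHat L := ⟨(Subgroup.mem_inf.mp hxML).2, b, (Subgroup.mem_inf.mp hb).1, hb1,
    (Subgroup.mem_centralizer_singleton_iff.mp (Subgroup.mem_inf.mp hb).2).symm⟩
  refine ⟨L, ⟨hL, honly.1⟩, honly.2, (fittingHallOf_eq_sigmaCore hG hL hnil fun p hp => hp.2.2.2).symm,
    CubeUnique.le_normalizer_inf (honly.1.trans (piCoreOf_normal _ _)) Subgroup.le_normalizer,
    ⟨inf_le_right, inf_le_right, (Subgroup.eq_bot_iff_forall _).mpr fun w hw => ?_, hdec⟩, hcompl,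
    fun K' U' hKU => ?_⟩
  · obtain ⟨⟨hwM, -⟩, hwS, -⟩ := hw
    exact Subgroup.mem_bot.mp (hcompl.2.2.1.le ⟨⟨hwM, sigmaCore_le L hwS⟩, hwS⟩)
  obtain ⟨q, hq, hqd⟩ := Nat.exists_prime_and_dvd (n := orderOf x) fun h => hx1 (orderOf_eq_one_iff.mp h)
  have hU := decomp_U_hall hG hL hKU
  have hxL := (Subgroup.mem_inf.mp hxML).2
  refine ⟨fun hU0 => ?_, ⟨hhat, ?_⟩, fun h => (hτ q hq hqd).2.1 (mem_sigma_of_mem_sigmaCore h hq hqd)⟩
  · refine hU.2.2 q hq ⟨hq, not_kappa_of_tau2 (hτ q hq hqd), (hτ q hq hqd).2.1⟩ ?_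
    rw [hU0, Subgroup.relIndex_bot_left]
    exact hqd.trans (Subgroup.orderOf_dvd_natCard L hxL)
  · have : Group.IsSolvable L := minSimple_solvable hG hL.1
    obtain ⟨g, hg, hle⟩ := OddOrder41.exists_conj_into (π := Cfsg.tau2 L)
      (sup_le hKU.compl.1 (sigmaCore_le L) : U' ⊔ Cfsg.sigmaCore L ≤ L)
      (fun r hr hrτ hd => hU.2.2 r hr ⟨hr, not_kappa_of_tau2 hrτ, hrτ.2.1⟩ (hd.trans
        (Subgroup.relIndex_dvd_of_le_left L le_sup_left)))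
      (Subgroup.zpowers_le.mpr hxL) (fun r hr hd => hτ r hr (by rwa [Nat.card_zpowers] at hd))
    have h1 : g * x * g⁻¹ ∈ U' ⊔ Cfsg.sigmaCore L := hle ⟨x, Subgroup.mem_zpowers x, rfl⟩
    have h2 : g * x * g⁻¹ * x⁻¹ ∈ U' ⊔ Cfsg.sigmaCore L :=
      decomp_derived_le hL hKU (Subgroup.commutator_mem_commutator hg hxL)
    have h3 := mul_mem (inv_mem h2) h1
    simpa [mul_assoc] using h3

end CfsgLib.OddOrder40
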